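import Cfsg.Agent.H714.Tri.OutC
import Cfsg.Agent.H672.Over
import Cfsg.Agent.H681.DegBasic
import Cfsg.Agent.H525.L2.Frame
import Cfsg.Agent.H967.EppoArith
import Cfsg.Prelude.Def_DegreeGraph

/-!
# Groups with a normal subgroup `PSL(2,F)` and trivial centralizer: outer primes

`out` : `S ≅ PSL(2,F)` normal in `Γ`, `C_Γ(S) = 1`, `t ∣ |Γ : S|` prime:
* `t ∤ |S|`: some degree of `Γ` is divisible by `t r s`, `r ≠ s` primes dividing `|S|`;
* `|F|` even: some degree is divisible by `t (|F| - 1)`, and, `|F| > 4`, some one by `t (|F| + 1)`.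
-/

set_option autoImplicit false
set_option linter.unusedSectionVars false

namespace Cfsg.Agent.H714.Tri

open Cfsg
open Cfsg.Agent.Characters.Core

universe u

variable {Γ : Type u} [Group Γ] [Finite Γ] (S : Subgroup Γ) [hS : S.Normal] {F : Type} [Field F] [Fintype F]
  (e : S ≃* Psl F)

/-- The action of `Γ` on `PSL(2,F)`. -/
def Al : Γ →* MulAut (Psl F) := (MulAut.congr e).toMonoidHom.comp (MulAut.conjNormal (H := S))

theorem al_apply (g : Γ) (s : S) : Al S e g (e s) = e (MulAut.conjNormal g s) := by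
  show e (MulAut.conjNormal g (e.symm (e s))) = _
  rw [e.symm_apply_apply]

theorem al_mem (s : S) : Al S e (s : Γ) = MulAut.conj (e s) := by
  apply MulEquiv.ext
  intro x
  obtain ⟨y, rfl⟩ := e.surjective x
  rw [al_apply, MulAut.conj_apply, ← map_inv, ← map_mul, ← map_mul]
  congr 1

theorem mem_of_inner (hC : Subgroup.centralizer (S : Set Γ) = ⊥) {g : Γ} {y : Psl F}
    (h : Al S e g = MulAut.conj y) : g ∈ S := by
  obtain ⟨s, rfl⟩ := e.surjective y
  rw [← al_mem] at h
  have h1 : (s : Γ)⁻¹ * g ∈ Subgroup.centralizer (S : Set Γ) := by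
    rw [Subgroup.mem_centralizer_iff]
    intro x hx
    have h2 : Al S e ((s : Γ)⁻¹ * g) = 1 := by rw [map_mul, h, map_inv, inv_mul_cancel]
    have h3 := al_apply S e ((s : Γ)⁻¹ * g) ⟨x, hx⟩
    rw [h2] at h3
    have h4 := congrArg Subtype.val (e.injective h3)
    rw [MulAut.conjNormal_apply] at h4
    have h5 : x = (s : Γ)⁻¹ * g * x * ((s : Γ)⁻¹ * g)⁻¹ := h4
    exact mul_inv_eq_iff_eq_mul.1 h5.symm |>.symm
  rw [hC, Subgroup.mem_bot] at h1
  have h2 : g = s := by rw [← mul_one (s : Γ), ← h1, mul_inv_cancel_left]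
  rw [h2]; exact s.2

include e in
theorem comm_mem (hC : Subgroup.centralizer (S : Set Γ) = ⊥) (a b : Γ) : a * b * a⁻¹ * b⁻¹ ∈ S := by
  obtain ⟨y, hy⟩ := commutator_inner (Al S e a) (Al S e b)
  refine mem_of_inner S e hC (y := y) ?_
  rw [← hy]
  simp only [map_mul, map_inv]

include e in
/-- A subgroup containing `S` is normal. -/
theorem normal_of_le (hC : Subgroup.centralizer (S : Set Γ) = ⊥) {I : Subgroup Γ} (hI : S ≤ I) : I.Normal := by
  constructor
  intro n hn g
  have h1 := I.mul_mem (hI (comm_mem S e hC g n)) hn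
  have h2 : g * n * g⁻¹ * n⁻¹ * n = g * n * g⁻¹ := by group
  rwa [h2] at h1

theorem exists_outer {t : ℕ} (ht : t.Prime) (hdvd : t ∣ S.index) : ∃ g : Γ, g ∉ S ∧ g ^ t ∈ S := by
  have hf : Fact t.Prime := ⟨ht⟩
  obtain ⟨x, hx⟩ := exists_prime_orderOf_dvd_card' (G := Γ ⧸ S) t (by rwa [← Subgroup.index_eq_card])
  obtain ⟨g, rfl⟩ := QuotientGroup.mk_surjective x
  refine ⟨g, fun h => ?_, ?_⟩
  · rw [(QuotientGroup.eq_one_iff g).2 h, orderOf_one] at hx
    exact ht.one_lt.ne hx
  · have h1 := pow_orderOf_eq_one (g : Γ ⧸ S)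
    rw [hx] at h1
    exact (QuotientGroup.eq_one_iff _).1 (by rw [QuotientGroup.mk_pow]; exact h1)

/-- A character moved by an element of order `t` modulo `S` gives `t` in a degree. -/
theorem exists_degree (hC : Subgroup.centralizer (S : Set Γ) = ⊥) {t : ℕ} (ht : t.Prime) {g : Γ}
    (hg : g ^ t ∈ S) (χ : IrrCharacter (Psl F)) (hχ : (χ : Psl F → ℂ) ∘ Al S e g ≠ χ) :
    ∃ d ∈ charDegrees Γ, t * charDegree (χ : Psl F → ℂ) ∣ d := by
  classical
  have hθ : IsIrrCharacter S ((χ : Psl F → ℂ) ∘ e) := isIrr_comp e.toMonoidHom e.surjective χ.2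
  have hSI : S ≤ H672.inertia S ((χ : Psl F → ℂ) ∘ e) := H672.le_inertia (isIrr_isClassFunction hθ)
  have hIn : (H672.inertia S ((χ : Psl F → ℂ) ∘ e)).Normal := normal_of_le S e hC hSI
  have hgI : g ∉ H672.inertia S ((χ : Psl F → ℂ) ∘ e) := by
    intro h
    apply hχ
    have h1 := H672.mem_inertia.1 h
    funext x
    obtain ⟨s, rfl⟩ := e.surjective x
    have h2 := congrFun h1 s
    show (χ : Psl F → ℂ) (Al S e g (e s)) = (χ : Psl F → ℂ) (e s)
    rw [al_apply]
    exact h2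
  have htI : t ∣ (H672.inertia S ((χ : Psl F → ℂ) ∘ e)).index := by
    by_contra hnd
    have hcop : Nat.Coprime t (H672.inertia S ((χ : Psl F → ℂ) ∘ e)).index :=
      (Nat.Prime.coprime_iff_not_dvd ht).2 hnd
    have h1 : ((g : Γ) : Γ ⧸ H672.inertia S ((χ : Psl F → ℂ) ∘ e)) ^ t = 1 := by
      rw [← QuotientGroup.mk_pow]
      exact (QuotientGroup.eq_one_iff _).2 (hSI hg)
    have h2 : orderOf ((g : Γ) : Γ ⧸ H672.inertia S ((χ : Psl F → ℂ) ∘ e)) ∣ t := orderOf_dvd_of_pow_eq_one h1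
    have h3 : orderOf ((g : Γ) : Γ ⧸ H672.inertia S ((χ : Psl F → ℂ) ∘ e)) ∣
        (H672.inertia S ((χ : Psl F → ℂ) ∘ e)).index := by
      rw [Subgroup.index_eq_card]
      exact orderOf_dvd_natCard _
    have h4 := Nat.eq_one_of_dvd_coprimes hcop h2 h3
    exact hgI ((QuotientGroup.eq_one_iff g).1 (orderOf_eq_one_iff.1 h4))
  obtain ⟨ψ, hψ, hover⟩ := H672.exists_over_subtype S hθ
  refine ⟨charDegree ψ, ⟨⟨ψ, hψ⟩, rfl⟩, ?_⟩
  have h1 := H672.index_mul_charDegree_dvd S hψ hθ hover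
  have h2 : charDegree ((χ : Psl F → ℂ) ∘ e) = charDegree (χ : Psl F → ℂ) := by
    have h3 : ((χ : Psl F → ℂ) ∘ e) 1 = (χ : Psl F → ℂ) 1 := by
      show (χ : Psl F → ℂ) (e 1) = _
      rw [map_one]
    unfold charDegree
    rw [h3]
  rw [h2] at h1
  exact (Nat.mul_dvd_mul_right htI _).trans h1

theorem charDegree_eq_of {χ : IrrCharacter (Psl F)} {n : ℕ} (h : (χ : Psl F → ℂ) 1 = n) :
    charDegree (χ : Psl F → ℂ) = n := H672.charDegree_of_eq h

/-- `q ≡ ± 1` modulo a power of two for `q = a ^ t`, `t` odd. -/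
theorem not_two_pow_add {a t k : ℕ} (ha : 2 ≤ a) (ht : Odd t) (h3 : 3 ≤ t) : a ^ t + 1 ≠ 2 ^ k := by
  intro h
  have h1 : a + 1 ∣ a ^ t + 1 := by simpa using Odd.nat_add_dvd_pow_add_pow a 1 ht
  have hlt : a < a ^ t := by
    calc a = a ^ 1 := (pow_one a).symm
      _ < a ^ t := Nat.pow_lt_pow_right (by omega) (by omega)
  -- in `ZMod (2 ^ k)`: `(-a) ^ t = 1`
  have hk : k ≠ 0 := by
    rintro rfl
    have : 0 < a ^ t := by positivity
    omega
  have h2 : ((-a : ℤ) : ZMod (2 ^ k)) ^ t = 1 := by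
    have h4 : ((a : ZMod (2 ^ k))) ^ t + 1 = 0 := by
      have h5 : ((a ^ t + 1 : ℕ) : ZMod (2 ^ k)) = 0 := by rw [h]; exact ZMod.natCast_self _
      push_cast at h5
      exact h5
    push_cast
    rw [ht.neg_pow]
    linear_combination -h4
  have hu : IsUnit ((-a : ℤ) : ZMod (2 ^ k)) := IsUnit.of_pow_eq_one h2 (by omega)
  obtain ⟨u, hu'⟩ := hu
  have h5 : u ^ t = 1 := by
    apply Units.ext
    rw [Units.val_pow_eq_pow_val, hu', h2, Units.val_one]
  have hne : NeZero (2 ^ k) := ⟨by positivity⟩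
  have h6 : u ^ (2 ^ (k - 1)) = 1 := by
    have h7 := ZMod.pow_totient u
    rw [Nat.totient_prime_pow Nat.prime_two (by omega)] at h7
    simpa using h7
  have h7 : u = 1 := by
    have h8 := orderOf_dvd_of_pow_eq_one h5
    have h9 := orderOf_dvd_of_pow_eq_one h6
    have hcop : Nat.Coprime t (2 ^ (k - 1)) := Nat.Coprime.pow_right _ (Nat.coprime_two_right.2 ht)
    exact orderOf_eq_one_iff.1 (Nat.eq_one_of_dvd_coprimes hcop h8 h9)
  rw [h7, Units.val_one] at hu'
  have h8 : ((a + 1 : ℕ) : ZMod (2 ^ k)) = 0 := by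
    push_cast at hu' ⊢
    linear_combination hu'
  have h9 := (ZMod.natCast_eq_zero_iff _ _).1 h8
  have h10 := Nat.le_of_dvd (by omega) h9
  omega

theorem not_two_pow_sub {a t k : ℕ} (ha : 2 ≤ a) (ht : Odd t) (h3 : 3 ≤ t) (hk : k ≠ 0) : a ^ t - 1 ≠ 2 ^ k := by
  intro h
  have hlt : a < a ^ t := by
    calc a = a ^ 1 := (pow_one a).symm
      _ < a ^ t := Nat.pow_lt_pow_right (by omega) (by omega)
  have h' : a ^ t = 2 ^ k + 1 := by omega
  have h2 : ((a : ℕ) : ZMod (2 ^ k)) ^ t = 1 := by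
    have h5 : ((a ^ t : ℕ) : ZMod (2 ^ k)) = ((2 ^ k + 1 : ℕ) : ZMod (2 ^ k)) := by rw [h']
    rw [Nat.cast_add, ZMod.natCast_self, zero_add, Nat.cast_one, Nat.cast_pow] at h5
    exact h5
  have hu : IsUnit ((a : ℕ) : ZMod (2 ^ k)) := IsUnit.of_pow_eq_one h2 (by omega)
  obtain ⟨u, hu'⟩ := hu
  have h5 : u ^ t = 1 := by
    apply Units.ext
    rw [Units.val_pow_eq_pow_val, hu', h2, Units.val_one]
  have hne : NeZero (2 ^ k) := ⟨by positivity⟩
  have h6 : u ^ (2 ^ (k - 1)) = 1 := by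
    have h7 := ZMod.pow_totient u
    rw [Nat.totient_prime_pow Nat.prime_two (by omega)] at h7
    simpa using h7
  have h7 : u = 1 := by
    have h8 := orderOf_dvd_of_pow_eq_one h5
    have h9 := orderOf_dvd_of_pow_eq_one h6
    have hcop : Nat.Coprime t (2 ^ (k - 1)) := Nat.Coprime.pow_right _ (Nat.coprime_two_right.2 ht)
    exact orderOf_eq_one_iff.1 (Nat.eq_one_of_dvd_coprimes hcop h8 h9)
  rw [h7, Units.val_one] at hu'
  have h8 : ((a - 1 : ℕ) : ZMod (2 ^ k)) = 0 := by
    rw [Nat.cast_sub (by omega), ← hu', Nat.cast_one, sub_self]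
  have h9 := (ZMod.natCast_eq_zero_iff _ _).1 h8
  have h10 := Nat.le_of_dvd (by omega) h9
  omega

/-- A number which is not a power of `r` has another prime divisor. -/
theorem exists_prime_ne {m r : ℕ} (hm : m ≠ 0) (h : ∀ k, m ≠ r ^ k) : ∃ s : ℕ, s.Prime ∧ s ≠ r ∧ s ∣ m := by
  by_contra hcon
  push Not at hcon
  apply h (m.primeFactorsList.length)
  exact Nat.eq_prime_pow_of_unique_prime_dvd hm (fun {d} hd hdm => by
    by_contra hne
    exact hcon d hd hne hdm)

include e in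
/-- **Outer primes.** -/
theorem out (hF : 4 ≤ Fintype.card F) (hC : Subgroup.centralizer (S : Set Γ) = ⊥) {t : ℕ} (ht : t.Prime)
    (hdvd : t ∣ S.index) :
    (¬ t ∣ Nat.card S → ∃ r s : ℕ, r.Prime ∧ s.Prime ∧ r ≠ s ∧ r ∣ Nat.card S ∧ s ∣ Nat.card S ∧
      ∃ d ∈ charDegrees Γ, t * (r * s) ∣ d) ∧
    (Even (Fintype.card F) → (∃ d ∈ charDegrees Γ, t * (Fintype.card F - 1) ∣ d) ∧
      (4 < Fintype.card F → ∃ d ∈ charDegrees Γ, t * (Fintype.card F + 1) ∣ d)) := by
  classical
  obtain ⟨g, hgS, hgt⟩ := exists_outer S ht hdvd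
  obtain ⟨σ, hσ, hσ2, hσ1⟩ := exists_fa (Al S e g)
  -- `σ ^ t = 1`
  have hσt : σ ^ t = 1 := by
    have h1 : ∀ n : ℕ, ∀ x, tsq ((Al S e g ^ n) x) = (σ ^ n) (tsq x) := by
      intro n
      induction n with
      | zero => intro x; rfl
      | succ k ih =>
        intro x
        rw [pow_succ, pow_succ]
        show tsq ((Al S e g ^ k) (Al S e g x)) = (σ ^ k) (σ (tsq x))
        rw [ih, hσ]
    refine fa_eq_one (α := Al S e g ^ t) (h1 t) (g := e ⟨g ^ t, hgt⟩) ?_
    rw [← map_pow]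
    exact al_mem S e ⟨g ^ t, hgt⟩
  have hcardS : Nat.card S = Nat.card (Psl F) := Nat.card_congr e.toEquiv
  have hq2 : Fintype.card F ≠ 0 := by omega
  rcases Nat.even_or_odd (Fintype.card F) with heven | hodd
  · -- `|F|` even
    have h2 : (2 : F) = 0 := by
      have hF2 : ringChar F = 2 := FiniteField.even_card_iff_char_two.2 (Nat.even_iff.1 heven)
      have := ringChar.Nat.cast_ringChar (R := F)
      rw [hF2] at this
      exact_mod_cast this
    have hch : CharP F 2 := by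
      have hF2 : ringChar F = 2 := FiniteField.even_card_iff_char_two.2 (Nat.even_iff.1 heven)
      exact hF2 ▸ ringChar.charP F
    have hσn : σ ≠ 1 := by
      intro h
      obtain ⟨y, hy⟩ := hσ1 h h2
      exact hgS (mem_of_inner S e hC hy)
    obtain ⟨hp, hm⟩ := exists_nonfixed_even hF hσ hσn
    have hm' : ∃ d ∈ charDegrees Γ, t * (Fintype.card F - 1) ∣ d := by
      obtain ⟨χ, hχ1, hχ⟩ := hm
      obtain ⟨d, hd, hdd⟩ := exists_degree S e hC ht hgt χ hχ
      refine ⟨d, hd, ?_⟩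
      rwa [charDegree_eq_of (n := Fintype.card F - 1) (by
        rw [hχ1, Nat.cast_sub (by omega), Nat.cast_one])] at hdd
    have hp' : 4 < Fintype.card F → ∃ d ∈ charDegrees Γ, t * (Fintype.card F + 1) ∣ d := by
      intro h4
      obtain ⟨χ, hχ1, hχ⟩ := hp h4
      obtain ⟨d, hd, hdd⟩ := exists_degree S e hC ht hgt χ hχ
      refine ⟨d, hd, ?_⟩
      rwa [charDegree_eq_of (n := Fintype.card F + 1) (by
        rw [hχ1, Nat.cast_add, Nat.cast_one])] at hdd
    refine ⟨fun htS => ?_, fun _ => ⟨hm', hp'⟩⟩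
    -- the order of `S`
    have hcard : Nat.card S = (Fintype.card F + 1) * (Fintype.card F * (Fintype.card F - 1)) := by
      rw [hcardS]
      exact (H525.L2.frame (MulEquiv.refl (Psl F))).card_even heven
    -- `|F| = 2 ^ n`
    obtain ⟨n, hn⟩ : ∃ n : ℕ, Fintype.card F = 2 ^ n := by
      obtain ⟨m, -, hm⟩ := FiniteField.card F 2
      exact ⟨m, hm⟩
    have hcardt := StdL2.FGal.card_fixed σ
    have hord : orderOf σ = t := by
      have h1 := orderOf_dvd_of_pow_eq_one hσt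
      rcases (Nat.dvd_prime ht).1 h1 with h | h
      · exact absurd (orderOf_eq_one_iff.1 h) hσn
      · exact h
    rw [Nat.card_eq_fintype_card (α := F), hord] at hcardt
    have hq0 := StdL2.FGal.one_lt_card_fixed σ
    set q := Fintype.card F with hq
    set q0 := Nat.card {x : F // σ x = x} with hq0d
    -- the primes 2 and 3 divide `|S|`
    have ht2 : t ≠ 2 := by
      rintro rfl
      apply htS
      rw [hcard]
      exact Dvd.dvd.mul_left (Dvd.dvd.mul_right (even_iff_two_dvd.1 heven) _) _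
    have h3S : 3 ∣ q - 1 ∨ 3 ∣ q + 1 := by
      have h5 : ¬ 3 ∣ q := by
        rw [hn]
        intro h
        have := (Nat.prime_dvd_prime_iff_eq Nat.prime_three Nat.prime_two).1
          (Nat.prime_three.dvd_of_dvd_pow h)
        omega
      omega
    have ht3 : t ≠ 3 := by
      rintro rfl
      apply htS
      rw [hcard]
      rcases h3S with h | h
      · exact Dvd.dvd.mul_left (Dvd.dvd.mul_left h _) _
      · exact Dvd.dvd.mul_right h _
    have ht5 : 5 ≤ t := by
      have h2 := ht.two_le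
      by_contra hlt
      have : t = 4 := by omega
      rw [this] at ht
      exact absurd ht (by norm_num)
    have hq32 : 2 ^ 5 ≤ q := by
      calc 2 ^ 5 ≤ 2 ^ t := Nat.pow_le_pow_right (by norm_num) ht5
        _ ≤ q0 ^ t := Nat.pow_le_pow_left hq0 t
        _ = q := hcardt.symm
    rcases h3S with h3 | h3
    · obtain ⟨s, hs, hs3, hsd⟩ := exists_prime_ne (m := q - 1) (r := 3) (by omega) (by
        intro k hk
        have h5 : 2 ^ n = 3 ^ k + 1 := by rw [← hn, ← hk]; omega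
        have h6 := H967.EppoArith.two_pow_eq h5
        have h7 : (2 : ℕ) ^ n ≤ 2 ^ 2 := Nat.pow_le_pow_right (by norm_num) h6
        rw [← hn] at h7
        omega)
      obtain ⟨d, hd, hdd⟩ := hm'
      refine ⟨3, s, Nat.prime_three, hs, hs3.symm, ?_, ?_, d, hd, ?_⟩
      · rw [hcard]; exact Dvd.dvd.mul_left (Dvd.dvd.mul_left h3 _) _
      · rw [hcard]; exact Dvd.dvd.mul_left (Dvd.dvd.mul_left hsd _) _
      · refine (Nat.mul_dvd_mul_left t ?_).trans hdd
        exact Nat.Coprime.mul_dvd_of_dvd_of_dvd ((Nat.coprime_primes Nat.prime_three hs).2 hs3.symm) h3 hsd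
    · obtain ⟨s, hs, hs3, hsd⟩ := exists_prime_ne (m := q + 1) (r := 3) (by omega) (by
        intro k hk
        have h5 : 2 ^ n + 1 = 3 ^ k := by rw [← hn, ← hk]
        have h6 := H967.EppoArith.two_pow_add_one_eq h5
        have h7 : (2 : ℕ) ^ n ≤ 2 ^ 3 := Nat.pow_le_pow_right (by norm_num) h6
        rw [← hn] at h7
        omega)
      obtain ⟨d, hd, hdd⟩ := hp' (by omega)
      refine ⟨3, s, Nat.prime_three, hs, hs3.symm, ?_, ?_, d, hd, ?_⟩
      · rw [hcard]; exact Dvd.dvd.mul_right h3 _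
      · rw [hcard]; exact Dvd.dvd.mul_right hsd _
      · refine (Nat.mul_dvd_mul_left t ?_).trans hdd
        exact Nat.Coprime.mul_dvd_of_dvd_of_dvd ((Nat.coprime_primes Nat.prime_three hs).2 hs3.symm) h3 hsd
  · -- `|F|` odd
    refine ⟨fun htS => ?_, fun h => absurd hodd (Nat.not_odd_iff_even.2 h)⟩
    have hcard : 2 * Nat.card S = (Fintype.card F + 1) * (Fintype.card F * (Fintype.card F - 1)) := by
      rw [hcardS]
      exact (H525.L2.frame (MulEquiv.refl (Psl F))).card_odd hodd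
    set q := Fintype.card F with hq
    obtain ⟨h, hh⟩ : ∃ h, q = 2 * h + 1 := hodd
    have hcard' : Nat.card S = (2 * h + 1) * (2 * (h * (h + 1))) := by
      have h1 : (q + 1) * (q * (q - 1)) = 2 * ((2 * h + 1) * (2 * (h * (h + 1)))) := by
        rw [hh]
        have : 2 * h + 1 - 1 = 2 * h := by omega
        rw [this]; ring
      rw [h1] at hcard
      exact Nat.eq_of_mul_eq_mul_left (by norm_num) hcard
    have h4S : 4 ∣ Nat.card S := by
      rw [hcard']
      obtain ⟨c, hc⟩ := Nat.even_mul_succ_self h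
      exact ⟨(2 * h + 1) * c, by rw [hc]; ring⟩
    have ht2 : t ≠ 2 := by
      rintro rfl
      exact htS ((by norm_num : (2 : ℕ) ∣ 4).trans h4S)
    have htodd : Odd t := ht.odd_of_ne_two ht2
    have hσn : σ ≠ 1 := by
      intro h1
      obtain ⟨y, hy⟩ := hσ2 h1
      apply hgS
      have hgg : g * g ∈ S := mem_of_inner S e hC (y := y) (by rw [map_mul]; exact hy)
      obtain ⟨k, hk⟩ := htodd
      have h2 : g ^ t = (g * g) ^ k * g := by rw [hk, pow_succ, pow_mul, pow_two]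
      have h3 := S.mul_mem (S.inv_mem (S.pow_mem hgg k)) hgt
      rwa [h2, inv_mul_cancel_left] at h3
    have hord : orderOf σ = t := by
      have h1 := orderOf_dvd_of_pow_eq_one hσt
      rcases (Nat.dvd_prime ht).1 h1 with h | h
      · exact absurd (orderOf_eq_one_iff.1 h) hσn
      · exact h
    have ht3 : 3 ≤ t := by
      have := ht.two_le
      omega
    obtain ⟨χ, hχ1, hχ⟩ := exists_nonfixed_odd ⟨h, hh⟩ hσ (by rw [hord]; exact ht3)
    obtain ⟨d, hd, hdd⟩ := exists_degree S e hC ht hgt χ hχ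
    have hcardt := StdL2.FGal.card_fixed σ
    rw [Nat.card_eq_fintype_card (α := F), hord] at hcardt
    have hq0 := StdL2.FGal.one_lt_card_fixed σ
    rcases hχ1 with hχ1 | hχ1
    · rw [charDegree_eq_of (n := q + 1) (by rw [hχ1, Nat.cast_add, Nat.cast_one])] at hdd
      obtain ⟨s, hs, hs2, hsd⟩ := exists_prime_ne (m := q + 1) (r := 2) (by omega) (by
        intro k hk
        rw [hq, hcardt] at hk
        exact not_two_pow_add hq0 htodd ht3 hk)
      have hsS : s ∣ h + 1 := by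
        have h1 : q + 1 = 2 * (h + 1) := by omega
        rw [h1] at hsd
        exact (Nat.Coprime.dvd_of_dvd_mul_left ((Nat.coprime_primes hs Nat.prime_two).2 hs2) hsd)
      refine ⟨2, s, Nat.prime_two, hs, hs2.symm, (by norm_num : (2 : ℕ) ∣ 4).trans h4S, ?_, d, hd, ?_⟩
      · rw [hcard']; exact Dvd.dvd.mul_left (Dvd.dvd.mul_left (Dvd.dvd.mul_left hsS _) _) _
      · refine (Nat.mul_dvd_mul_left t ?_).trans hdd
        have h1 : q + 1 = 2 * (h + 1) := by omega
        rw [h1]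
        exact Nat.mul_dvd_mul_left 2 hsS
    · rw [charDegree_eq_of (n := q - 1) (by rw [hχ1, Nat.cast_sub (by omega), Nat.cast_one])] at hdd
      obtain ⟨s, hs, hs2, hsd⟩ := exists_prime_ne (m := q - 1) (r := 2) (by omega) (by
        intro k hk
        rcases Nat.eq_zero_or_pos k with h0 | h0
        · rw [h0, pow_zero] at hk; omega
        · rw [hq, hcardt] at hk
          exact not_two_pow_sub hq0 htodd ht3 (by omega) hk)
      have hsS : s ∣ h := by
        have h1 : q - 1 = 2 * h := by omega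
        rw [h1] at hsd
        exact (Nat.Coprime.dvd_of_dvd_mul_left ((Nat.coprime_primes hs Nat.prime_two).2 hs2) hsd)
      refine ⟨2, s, Nat.prime_two, hs, hs2.symm, (by norm_num : (2 : ℕ) ∣ 4).trans h4S, ?_, d, hd, ?_⟩
      · rw [hcard']; exact Dvd.dvd.mul_left (Dvd.dvd.mul_left (Dvd.dvd.mul_right hsS _) _) _
      · refine (Nat.mul_dvd_mul_left t ?_).trans hdd
        have h1 : q - 1 = 2 * h := by omega
        rw [h1]
        exact Nat.mul_dvd_mul_left 2 hsS

end Cfsg.Agent.H714.Tri
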