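import Cfsg.Agent.H714.Tri.OutP
import Cfsg.Agent.H714.Tri.Sub
import Cfsg.Agent.H417.DegQuasi
import Cfsg.Agent.S2086

/-!
# Central extensions of `PSL(2,F)`, `|F| > 4` even, split

* `split_central` : `commutator Q ⊓ ker π = ⊥`, `commutator Q ⊔ ker π = ⊤`;
* `exists_lin_of_split` : linear characters of the kernel extend.
-/

set_option autoImplicit false

namespace Cfsg.Agent.H714.Tri

open Subgroup
open scoped commutatorElement

universe u v

section frame

variable {F : Type} [Field F] [Fintype F] (h4 : 4 ≤ Fintype.card F)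

include h4 in
theorem simple_psl : IsSimpleGroup (Psl F) :=
  Matrix.ProjectiveSpecialLinearGroup.rank_two_simple (by rw [Nat.card_eq_fintype_card]; omega)

variable {S : Type v} [Group S] (e : S ≃* Psl F)

include h4 e in
theorem simple_of_equiv : IsSimpleGroup S := by
  have := simple_psl h4
  exact e.isSimpleGroup

include h4 e in
theorem not_comm_of_equiv : ¬ ∀ a b : S, a * b = b * a := by
  intro h
  apply not_solvable (F := F) h4
  have hcomm : ∀ a b : Psl F, a * b = b * a := by
    intro a b
    obtain ⟨x, rfl⟩ := e.surjective a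
    obtain ⟨y, rfl⟩ := e.surjective b
    rw [← map_mul, h, map_mul]
  let _ : CommGroup (Psl F) := { (inferInstance : Group (Psl F)) with mul_comm := hcomm }
  infer_instance

include h4 e in
theorem perfect_of_equiv : commutator S = ⊤ := by
  have := simple_of_equiv h4 e
  have hn : (commutator S).Normal := inferInstance
  rcases hn.eq_bot_or_eq_top with h | h
  · exfalso
    apply not_comm_of_equiv h4 e
    intro a b
    have h1 : ⁅a, b⁆ ∈ commutator S := Subgroup.commutator_mem_commutator (mem_top a) (mem_top b)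
    rw [h, mem_bot, commutatorElement_eq_one_iff_mul_comm] at h1
    exact h1
  · exact h

include h4 e in
theorem center_of_equiv : center S = ⊥ := by
  have := simple_of_equiv h4 e
  have hn : (center S).Normal := inferInstance
  rcases hn.eq_bot_or_eq_top with h | h
  · exact h
  · exfalso
    apply not_comm_of_equiv h4 e
    intro a b
    have h1 : a ∈ center S := h ▸ mem_top a
    exact (Subgroup.mem_center_iff.1 h1 b).symm

end frame

section split

variable {F : Type} [Field F] [Fintype F] (heven : Even (Fintype.card F)) (h4 : 4 < Fintype.card F)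
  {Q : Type u} [Group Q] {S : Type v} [Group S] (π : Q →* S) (hs : Function.Surjective π)
  (hc : π.ker ≤ center Q) (e : S ≃* Psl F)

include h4 hs e in
theorem sup_ker_eq_top : commutator Q ⊔ π.ker = ⊤ := by
  have h1 : (commutator Q).map π = ⊤ := by
    rw [commutator_def, Subgroup.map_commutator, Subgroup.map_top_of_surjective π hs, ← commutator_def,
      perfect_of_equiv h4.le e]
  have h2 := Subgroup.comap_map_eq π (commutator Q)
  rw [h1, Subgroup.comap_top] at h2
  exact h2.symm

include h4 hs hc e in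
theorem perfect_commutator : ⁅commutator Q, commutator Q⁆ = commutator Q := by
  apply le_antisymm (Subgroup.commutator_le_right _ _)
  have hdec : ∀ x : Q, ∃ a ∈ commutator Q, ∃ z ∈ π.ker, a * z = x := by
    intro x
    have hx : x ∈ commutator Q ⊔ π.ker := (sup_ker_eq_top h4 π hs e) ▸ mem_top x
    exact Subgroup.mem_sup_of_normal_left.1 hx
  conv_lhs => rw [_root_.commutator_def]
  rw [Subgroup.commutator_le]
  intro x _ y _
  obtain ⟨a, ha, z, hz, rfl⟩ := hdec x
  obtain ⟨b, hb, w, hw, rfl⟩ := hdec y
  have hz' := Subgroup.mem_center_iff.1 (hc hz)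
  have hw' := Subgroup.mem_center_iff.1 (hc hw)
  have h1 : ⁅a * z, b * w⁆ = ⁅a, b⁆ := by
    rw [commutatorElement_def, commutatorElement_def, mul_inv_rev, mul_inv_rev]
    calc a * z * (b * w) * (z⁻¹ * a⁻¹) * (w⁻¹ * b⁻¹)
        = a * (z * b) * w * z⁻¹ * a⁻¹ * w⁻¹ * b⁻¹ := by simp only [mul_assoc]
      _ = a * (b * z) * w * z⁻¹ * a⁻¹ * w⁻¹ * b⁻¹ := by rw [hz' b]
      _ = a * b * (z * w) * z⁻¹ * a⁻¹ * w⁻¹ * b⁻¹ := by simp only [mul_assoc]
      _ = a * b * (w * z) * z⁻¹ * a⁻¹ * w⁻¹ * b⁻¹ := by rw [hz' w]
      _ = a * b * (w * a⁻¹) * w⁻¹ * b⁻¹ := by simp only [mul_assoc, mul_inv_cancel_left]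
      _ = a * b * (a⁻¹ * w) * w⁻¹ * b⁻¹ := by rw [hw' a⁻¹]
      _ = a * b * a⁻¹ * b⁻¹ := by simp only [mul_assoc, mul_inv_cancel_left]
  rw [h1]
  exact Subgroup.commutator_mem_commutator ha hb

variable [Finite Q]

include heven h4 hs hc e in
/-- Central extensions of `PSL(2,F)` split for `|F| > 4` even. -/
theorem split_central : commutator Q ⊓ π.ker = ⊥ := by
  have hsup := sup_ker_eq_top h4 π hs e
  set L := commutator Q with hL
  have hperf : commutator L = ⊤ := by
    have h1 := perfect_commutator h4 π hs hc e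
    rw [← hL] at h1
    rw [eq_top_iff, ← Subgroup.map_subtype_le_map_subtype, Subgroup.map_subtype_commutator, h1]
    exact Subgroup.map_subtype_le _
  let f : L →* S := π.comp L.subtype
  have hfs : Function.Surjective f := by
    intro s
    obtain ⟨x, rfl⟩ := hs s
    have hx : x ∈ L ⊔ π.ker := hsup ▸ mem_top x
    obtain ⟨a, ha, z, hz, rfl⟩ := Subgroup.mem_sup_of_normal_left.1 hx
    refine ⟨⟨a, ha⟩, ?_⟩
    show π a = π (a * z)
    rw [map_mul, MonoidHom.mem_ker.1 hz, mul_one]
  have hfk : f.ker = center L := by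
    apply le_antisymm
    · intro x hx
      rw [Subgroup.mem_center_iff]
      intro y
      apply Subtype.ext
      exact Subgroup.mem_center_iff.1 (hc (show (x : Q) ∈ π.ker from hx)) y
    · intro x hx
      have h1 : f x ∈ center S := by
        rw [Subgroup.mem_center_iff]
        intro s
        obtain ⟨y, rfl⟩ := hfs s
        rw [← map_mul, ← map_mul, Subgroup.mem_center_iff.1 hx y]
      rw [center_of_equiv h4.le e, mem_bot] at h1
      exact h1
  have hmul : Cfsg.HasCyclicSchurMultiplier (Psl F) 1 := by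
    have h := S2086.result (F := F) (q := Fintype.card F) rfl 2 le_rfl (fun _ => h4.le) (by
      simp only [Set.mem_insert_iff, Set.mem_singleton_iff, Prod.mk.injEq]
      obtain ⟨k, hk⟩ := heven
      omega)
    have h1 : Nat.gcd 2 (Fintype.card F - 1) = 1 := by
      rw [← Nat.coprime_iff_gcd_eq_one, Nat.coprime_two_left]
      obtain ⟨k, hk⟩ := heven
      exact ⟨k - 1, by omega⟩
    rwa [h1] at h
  have hZ := H417.DegQuasi.center_eq_bot_of_multiplier hmul hperf
    (((QuotientGroup.quotientMulEquivOfEq hfk.symm).trans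
      (QuotientGroup.quotientKerEquivOfSurjective f hfs)).trans e)
  rw [eq_bot_iff]
  rintro x ⟨hx1, hx2⟩
  have h1 : (⟨x, hx1⟩ : L) ∈ center L := by
    rw [← hfk]
    exact hx2
  rw [hZ, mem_bot] at h1
  exact congrArg Subtype.val h1

include heven h4 hs hc e in
/-- Linear characters of the kernel extend. -/
theorem exists_lin_of_split {A : Type*} [CommGroup A] (l : π.ker →* A) :
    ∃ lam : Q →* A, ∀ z : π.ker, lam z = l z := by
  have h1 := split_central heven h4 π hs hc e
  have h2 := sup_ker_eq_top h4 π hs e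
  let j : π.ker →* Q ⧸ commutator Q := (QuotientGroup.mk' (commutator Q)).comp π.ker.subtype
  have hj : Function.Bijective j := by
    constructor
    · rw [injective_iff_map_eq_one]
      intro z hz
      have h3 : (z : Q) ∈ commutator Q := (QuotientGroup.eq_one_iff _).1 hz
      have h4 : (z : Q) ∈ commutator Q ⊓ π.ker := ⟨h3, z.2⟩
      rw [h1, mem_bot] at h4
      exact Subtype.ext h4
    · intro y
      obtain ⟨x, rfl⟩ := QuotientGroup.mk_surjective y
      have hx : x ∈ commutator Q ⊔ π.ker := h2 ▸ mem_top x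
      obtain ⟨a, ha, z, hz, rfl⟩ := Subgroup.mem_sup_of_normal_left.1 hx
      refine ⟨⟨z, hz⟩, ?_⟩
      show (z : Q ⧸ commutator Q) = ((a * z : Q) : Q ⧸ commutator Q)
      rw [QuotientGroup.mk_mul, (QuotientGroup.eq_one_iff a).2 ha, one_mul]
  let E : π.ker ≃* Q ⧸ commutator Q := MulEquiv.ofBijective j hj
  refine ⟨(l.comp E.symm.toMonoidHom).comp (QuotientGroup.mk' (commutator Q)), fun z => ?_⟩
  show l (E.symm (QuotientGroup.mk' (commutator Q) z)) = l z
  congr 1
  exact E.symm_apply_apply z

end split

end Cfsg.Agent.H714.Tri
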