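import Cfsg.Agent.H714.Tri.Main
import Cfsg.Agent.H677.Pent.Prod

/-!
# Disconnected triangle-free degree graphs with five vertices

* `not_solvable_of_disconnected` : `G` is not solvable (Pálfy);
* `connected_of_outside` : a vertex not dividing the order of the simple section: the graph is connected;
* `disconnected_structure` : S4945 from the fact on the simple groups;
* `not_connected`, `hMain` : five vertices, all of them dividing the order of the simple section: disconnected.
-/

set_option autoImplicit false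
set_option linter.unusedSectionVars false

namespace Cfsg.Agent.H714.Tri

open Cfsg Subgroup Cfsg.Agent.H33 Cfsg.Agent.H988.DG

universe u

variable {G : Type u} [Group G] [Finite G]

theorem triangle (h3 : (degreeGraph G).CliqueFree 3) {a b c : ℕ} (h1 : (degreeGraph G).Adj a b)
    (h2 : (degreeGraph G).Adj b c) (h4 : (degreeGraph G).Adj a c) : False := by
  refine h3 {a, b, c} ?_
  rw [SimpleGraph.is3Clique_triple_iff]
  exact ⟨h1, h4, h2⟩

/-- A disconnected graph: two vertices which are not reachable. -/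
theorem exists_not_reachable (hne : (degreePrimes G).Nonempty)
    (h : ¬ ((degreeGraph G).induce (degreePrimes G)).Connected) :
    ∃ u v : ↥(degreePrimes G), ¬ ((degreeGraph G).induce (degreePrimes G)).Reachable u v := by
  by_contra hcon
  push Not at hcon
  obtain ⟨x, hx⟩ := hne
  have : Nonempty ↥(degreePrimes G) := ⟨⟨x, hx⟩⟩
  exact h ⟨hcon⟩

theorem reach_of_adj {x y : ℕ} (hx : x ∈ degreePrimes G) (hy : y ∈ degreePrimes G) (h : (degreeGraph G).Adj x y) :
    ((degreeGraph G).induce (degreePrimes G)).Reachable ⟨x, hx⟩ ⟨y, hy⟩ := by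
  apply SimpleGraph.Adj.reachable
  exact h

theorem not_solvable_of_disconnected (h5 : Set.ncard (degreePrimes G) = 5) (h3 : (degreeGraph G).CliqueFree 3)
    (hdis : ¬ ((degreeGraph G).induce (degreePrimes G)).Connected) : ¬ Group.IsSolvable G := by
  classical
  intro hsol
  obtain ⟨P, hP⟩ := exists_finset G
  rw [← hP, Set.ncard_coe_finset] at h5
  have hm : ∀ {a : ℕ}, a ∈ P → a ∈ degreePrimes G := fun ha => by rw [← hP]; exact ha
  have hne : (degreePrimes G).Nonempty := by
    obtain ⟨x, hx⟩ : P.Nonempty := Finset.card_pos.1 (by omega)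
    exact ⟨x, hm hx⟩
  obtain ⟨⟨u, hu⟩, ⟨v, hv⟩, huv⟩ := exists_not_reachable hne hdis
  -- every vertex is reachable from one of them, not from both
  let Ru : ℕ → Prop := fun w => ∃ hw : w ∈ degreePrimes G,
    ((degreeGraph G).induce (degreePrimes G)).Reachable ⟨u, hu⟩ ⟨w, hw⟩
  let Rv : ℕ → Prop := fun w => ∃ hw : w ∈ degreePrimes G,
    ((degreeGraph G).induce (degreePrimes G)).Reachable ⟨v, hv⟩ ⟨w, hw⟩
  have huv' : u ≠ v := by
    rintro rfl
    exact huv (SimpleGraph.Reachable.refl _)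
  have hdisj : ∀ x y : ℕ, Ru x → Rv y → x ≠ y ∧ ¬ (degreeGraph G).Adj x y := by
    rintro x y ⟨hx, h1⟩ ⟨hy, h2⟩
    constructor
    · rintro rfl
      exact huv (h1.trans h2.symm)
    · intro h
      exact huv ((h1.trans (reach_of_adj hx hy h)).trans h2.symm)
  have hu' : Ru u := ⟨hu, SimpleGraph.Reachable.refl _⟩
  have hv' : Rv v := ⟨hv, SimpleGraph.Reachable.refl _⟩
  have hcov : ∀ w ∈ P, Ru w ∨ Rv w := by
    intro w hw
    by_cases hwu : w = u
    · rw [hwu]; exact Or.inl hu'
    by_cases hwv : w = v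
    · rw [hwv]; exact Or.inr hv'
    rcases H748.Palfy.palfy hsol hu hv (hm hw) huv' (Ne.symm hwv) (Ne.symm hwu) with h | h | h
    · exact absurd h (hdisj u v hu' hv').2
    · exact Or.inr ⟨hm hw, reach_of_adj hv (hm hw) h⟩
    · exact Or.inl ⟨hm hw, reach_of_adj hu (hm hw) h⟩
  -- three vertices on one side
  have hA : ∀ x y : ℕ, x ∈ P → y ∈ P → x ≠ y → Ru x → Ru y → (degreeGraph G).Adj x y := by
    intro x y hx hy hxy h1 h2
    rcases H748.Palfy.palfy hsol (hm hx) (hm hy) hv hxy (hdisj y v h2 hv').1 (hdisj x v h1 hv').1 with h | h | h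
    · exact h
    · exact absurd h (hdisj y v h2 hv').2
    · exact absurd h (hdisj x v h1 hv').2
  have hB : ∀ x y : ℕ, x ∈ P → y ∈ P → x ≠ y → Rv x → Rv y → (degreeGraph G).Adj x y := by
    intro x y hx hy hxy h1 h2
    rcases H748.Palfy.palfy hsol (hm hx) (hm hy) hu hxy (hdisj u y hu' h2).1.symm (hdisj u x hu' h1).1.symm with h | h | h
    · exact h
    · exact absurd h.symm (hdisj u y hu' h2).2
    · exact absurd h.symm (hdisj u x hu' h1).2
  have h6 := Finset.card_filter_add_card_filter_not (s := P) (p := fun x => Ru x)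
  by_cases h7 : 2 < (P.filter (fun x => Ru x)).card
  · obtain ⟨a, b, c, ha, hb, hc', hab, hac, hbc⟩ := Finset.two_lt_card_iff.1 h7
    simp only [Finset.mem_filter] at ha hb hc'
    exact triangle h3 (hA a b ha.1 hb.1 hab ha.2 hb.2) (hA b c hb.1 hc'.1 hbc hb.2 hc'.2)
      (hA a c ha.1 hc'.1 hac ha.2 hc'.2)
  · have h8 : 2 < (P.filter (fun x => ¬ Ru x)).card := by omega
    obtain ⟨a, b, c, ha, hb, hc', hab, hac, hbc⟩ := Finset.two_lt_card_iff.1 h8
    simp only [Finset.mem_filter] at ha hb hc'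
    have ha2 := (hcov a ha.1).resolve_left ha.2
    have hb2 := (hcov b hb.1).resolve_left hb.2
    have hc2 := (hcov c hc'.1).resolve_left hc'.2
    exact triangle h3 (hB a b ha.1 hb.1 hab ha2 hb2) (hB b c hb.1 hc'.1 hbc hb2 hc2)
      (hB a c ha.1 hc'.1 hac ha2 hc2)

theorem connected_of_outside (T : Fr G) (h3 : (degreeGraph G).CliqueFree 3) {t : ℕ} (ht : t ∈ degreePrimes G)
    (hn : ¬ t ∣ Nat.card T.L) : ((degreeGraph G).induce (degreePrimes G)).Connected := by
  have h2 : 2 ∣ Nat.card T.L := two_dvd_card_psl T.hF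
  have hIM2 : H33.IM 2 T.L := (primes_psl T.hF (MulEquiv.refl T.L)).1
  have h2G : 2 ∈ degreePrimes G := mem_dp_iff.2 ⟨Nat.prime_two, T.im_of_L hIM2⟩
  -- vertices outside are adjacent to all vertices inside
  have key : ∀ s ∈ degreePrimes G, ¬ s ∣ Nat.card T.L → ∀ r : ℕ, r.Prime → r ∣ Nat.card T.L →
      (degreeGraph G).Adj s r := by
    intro s hs hsn r hr hrd
    have hsp := hs.1
    rcases T.mem outFact h3 hs with h | ⟨-, h⟩
    · exact absurd h hsn
    rcases T.out_R h with ⟨p, q, hp, hq, hpq, hpd, hqd, h4⟩ | ⟨-, h5⟩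
    · exact absurd h3 (not_cliqueFree_of_dvd hsp hp hq (fun h => hsn (h ▸ hpd)) hpq (fun h => hsn (h ▸ hqd))
        (by rwa [mul_assoc]))
    · refine H988.DG.adj_iff.2 ⟨fun h => hsn (h ▸ hrd), hsp, hr, h5 r ?_⟩
      exact H664.R1.PSLTwo.im_psl T.hF hr hrd
  have hne : Nonempty ↥(degreePrimes G) := ⟨⟨t, ht⟩⟩
  have hall : ∀ w : ↥(degreePrimes G), ((degreeGraph G).induce (degreePrimes G)).Reachable w ⟨t, ht⟩ := by
    rintro ⟨w, hw⟩
    by_cases hwd : w ∣ Nat.card T.L
    · exact (reach_of_adj ht hw (key t ht hn w hw.1 hwd)).symm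
    · exact (reach_of_adj hw h2G (key w hw hwd 2 Nat.prime_two h2)).trans
        (reach_of_adj ht h2G (key t ht hn 2 Nat.prime_two h2)).symm
  exact ⟨fun x y => (hall x).trans (hall y).symm⟩

/-- **S4945 from the fact on simple groups.** -/
theorem disconnected_structure (hT : Cfsg.Agent.H671.H5.FactTri.{0}) (h5 : Set.ncard (degreePrimes G) = 5)
    (h3 : (degreeGraph G).CliqueFree 3) (hdis : ¬ ((degreeGraph G).induce (degreePrimes G)).Connected) :
    ∃ H A : Subgroup G, H.Normal ∧ A.Normal ∧ H ⊓ A = ⊥ ∧ H ⊔ A = ⊤ ∧ IsMulCommutative A ∧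
      ∃ (f : ℕ) (F : Type) (_ : Field F) (_ : Fintype F), Fintype.card F = 2 ^ f ∧
        (2 ^ f - 1).primeFactors.card = 2 ∧ (2 ^ f + 1).primeFactors.card = 2 ∧
        Nonempty (↥H ≃* Matrix.ProjectiveSpecialLinearGroup (Fin 2) F) := by
  obtain ⟨T⟩ := Fr.exists hT (not_solvable_of_disconnected h5 h3 hdis) h3
  refine struct_five T h3 (fun p hp => ?_) h5
  by_contra hn
  exact hdis (connected_of_outside T h3 hp hn)

/-- Five vertices in the simple section: the graph is not connected. -/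
theorem not_connected (T : Fr G) (h3 : (degreeGraph G).CliqueFree 3) (hcard : Set.ncard (degreePrimes G) = 5)
    (hsub : ∀ p ∈ degreePrimes G, p ∣ Nat.card T.L) :
    ¬ ((degreeGraph G).induce (degreePrimes G)).Connected := by
  classical
  intro hcon
  obtain ⟨H, A, hH, hA, hinf, hsup, hcomm, f, F, iF, iF', hF, hcm, hcp, ⟨e⟩⟩ := struct_five T h3 hsub hcard
  obtain ⟨E⟩ := H677.Pent.exists_prodEquiv H A hinf hsup
  have hf : f ≠ 0 := by
    rintro rfl
    simp at hcm
  have heven : Even (Fintype.card F) := by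
    rw [hF]
    exact (Nat.even_pow' hf).2 even_two
  have hchar : CharP F 2 := by
    have h6 : ringChar F = 2 := FiniteField.even_card_iff_char_two.2 (Nat.even_iff.1 heven)
    rw [← h6]
    exact ringChar.charP F
  have h4 : 4 ≤ Fintype.card F := by
    have h1 := twoP_of_card hcm
    obtain ⟨a, b, ha, hb, hab, had, hbd⟩ := h1
    have hne : 2 ^ f - 1 ≠ 0 := by
      intro h
      rw [h] at hcm
      simp at hcm
    have h5 := Nat.le_of_dvd (Nat.pos_of_ne_zero hne) had
    have h6 := Nat.le_of_dvd (Nat.pos_of_ne_zero hne) hbd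
    have ha2 := ha.two_le
    have hb2 := hb.two_le
    rw [hF]
    omega
  obtain ⟨-, hadj⟩ := S4812.result F (Fintype.card F) rfl h4 (S := H) (Or.inl ⟨e⟩)
  -- `2` is isolated
  have hiso : ∀ s, ¬ (degreeGraph G).Adj 2 s := by
    rintro s ⟨hs2, -, hs, d, hd, hdd⟩
    have hd' : d ∈ charDegrees (H × A) := H671.Link.equiv E hd
    obtain ⟨a, ha, b, hb, rfl⟩ := H677.Pent.of_mem_cd hd'
    have hb1 : b = 1 := by
      obtain ⟨β, rfl⟩ := hb
      have h5 := S0187.result.1 (fun x y : A => hcomm.is_comm.comm x y) β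
      exact H672.charDegree_of_eq (by rw [h5, Nat.cast_one])
    rw [hb1, mul_one] at hdd
    have h5 := (hadj 2 s).1 ⟨hs2, Nat.prime_two, hs, a, ha, hdd⟩
    obtain ⟨k, hk⟩ := heven
    rcases h5.2.2.2 with h6 | h6
    · have := h6.1
      omega
    · have := h6.1
      omega
  have hIM2 : H33.IM 2 T.L := (primes_psl T.hF (MulEquiv.refl T.L)).1
  have h2G : 2 ∈ degreePrimes G := mem_dp_iff.2 ⟨Nat.prime_two, T.im_of_L hIM2⟩
  obtain ⟨v, hv, hv2⟩ : ∃ v ∈ degreePrimes G, v ≠ 2 := by
    by_contra hno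
    push Not at hno
    have h5 : degreePrimes G ⊆ {2} := fun x hx => hno x hx
    have h6 := Set.ncard_le_ncard h5 (Set.finite_singleton 2)
    rw [hcard, Set.ncard_singleton] at h6
    omega
  obtain ⟨w⟩ := hcon.preconnected ⟨2, h2G⟩ ⟨v, hv⟩
  cases w with
  | nil => exact hv2 rfl
  | cons h p => exact hiso _ h

/-- The form used by `H677.Pent.Fin.final`. -/
theorem hMain (G : Type u) [Group G] [Finite G] (R K : Subgroup G) [R.Normal] [K.Normal] (hRK : R ≤ K)
    (hR : Group.IsSolvable R) (hmax : ∀ N : Subgroup G, N.Normal → Group.IsSolvable N → N ≤ R)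
    (F : Type) [Field F] [Fintype F] (hF : 4 ≤ Fintype.card F)
    (he : Nonempty (K.map (QuotientGroup.mk' R) ≃* Matrix.ProjectiveSpecialLinearGroup (Fin 2) F))
    (hC : Subgroup.centralizer ((K.map (QuotientGroup.mk' R) : Subgroup (G ⧸ R)) : Set (G ⧸ R)) = ⊥)
    (h3 : (degreeGraph G).CliqueFree 3) (hcard : Set.ncard (degreePrimes G) = 5)
    (hsub : ∀ p ∈ degreePrimes G, p ∣ Nat.card (Matrix.ProjectiveSpecialLinearGroup (Fin 2) F)) :
    ¬ ((degreeGraph G).induce (degreePrimes G)).Connected := by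
  obtain ⟨e⟩ := he
  exact not_connected (⟨R, K, inferInstance, inferInstance, hRK, hR, hmax, F, inferInstance, inferInstance, hF, e, hC⟩ :
    Fr G) h3 hcard hsub

end Cfsg.Agent.H714.Tri
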