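import Cfsg.Agent.H714.Tri.Cen
import Cfsg.Agent.H525.L2.Main

/-!
# Characters over `θ` when the quotient is `PSL(2,F)`, `|F|` even with two primes in `|F| ± 1`

`three_over` : `X ⧸ M ≅ PSL(2,F)`, `θ ∈ Irr(M)`: either some `χ ∈ Irr(X | θ)` has `χ(1) / θ(1)` divisible by three
different primes, or `θ` extends to `X`.
-/

set_option autoImplicit false
set_option linter.unusedSectionVars false

namespace Cfsg.Agent.H714.Tri

open Cfsg
open scoped ComplexConjugate
open Cfsg.Agent.Characters.Core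
open Cfsg.Agent.H595.Count Cfsg.Agent.H595.Central Cfsg.Agent.H595.Triple
open Cfsg.Agent.H525.L2

universe u

section

variable {X : Type u} [Group X] [Finite X] (M : Subgroup X) [hM : M.Normal] {F : Type} [Field F]
  [Fintype F] (heven : Even (Fintype.card F)) (h4 : 4 < Fintype.card F)
  (e : X ⧸ M ≃* Psl F) [Fintype M] (θ : IrrCharacter M)

include heven h4 e in
/-- The invariant case. -/
theorem extends_of_inv (hinv : CInv M (θ : M → ℂ)) :
    ∃ χ : IrrCharacter X, ∀ m : M, (χ : X → ℂ) m = (θ : M → ℂ) m := by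
  obtain ⟨Q, hg, hfin, π, l, hs, hc, hl, H⟩ := exists_red M θ hinv
  obtain ⟨lam, hlam⟩ := exists_lin_of_split heven h4 π hs hc e l
  obtain ⟨χ0, hχ0⟩ := H (homIrr lam) (over_of_linear hlam)
  refine ⟨χ0, fun n => ?_⟩
  rw [hχ0 n, homIrr_apply, map_one, Units.val_one, one_mul]

include heven h4 e in
/-- The case of a proper inertia group. -/
theorem three_of_proper (hm1 : TwoP (Fintype.card F - 1)) (hp1 : TwoP (Fintype.card F + 1))
    (hT1 : Cfsg.Agent.H672.inertia M (θ : M → ℂ) ≠ ⊤) :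
    ∃ χ : IrrCharacter X, classInner (fun m : M => (χ : X → ℂ) m) (θ : M → ℂ) ≠ 0 ∧
      ∃ d : ℕ, charDegree (χ : X → ℂ) = d * charDegree (θ : M → ℂ) ∧ ThreeP d := by
  classical
  have := Fintype.ofFinite X
  set T := Cfsg.Agent.H672.inertia M (θ : M → ℂ) with hTdef
  have := Fintype.ofFinite T
  have hT : ∀ g : X, g ∈ T ↔ ∀ n : M, (θ : M → ℂ) ⟨g * n * g⁻¹, hM.conj_mem (n : X) n.2 g⟩ =
      (θ : M → ℂ) n := fun g => Cfsg.Agent.H672.mem_inertia_iff
  have hMT : M ≤ T := Cfsg.Agent.H672.le_inertia (isIrr_isClassFunction θ.2)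
  let N : Subgroup T := M.subgroupOf T
  let eN : N ≃* M := Subgroup.subgroupOfEquivOfLe hMT
  let θ' : IrrCharacter N := ⟨(θ : M → ℂ) ∘ eN, isIrr_comp eN.toMonoidHom eN.surjective θ.2⟩
  have hinv : CInv N (θ' : N → ℂ) := by
    intro x n
    exact (hT x).1 x.2 (eN n)
  obtain ⟨Q, hg, hfin, π, l, hs, hc, hl, H⟩ := exists_red N θ' hinv
  -- the degrees
  have hdeg : ∀ β : IrrCharacter Q, Over π l (β : Q → ℂ) →
      ∃ χ : IrrCharacter X, classInner (fun m : M => (χ : X → ℂ) m) (θ : M → ℂ) ≠ 0 ∧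
        charDegree (χ : X → ℂ) = (T.index * charDegree (β : Q → ℂ)) * charDegree (θ : M → ℂ) := by
    intro β hβ
    obtain ⟨ψ, hψ⟩ := H β hβ
    have hψ' : ∀ m : M, (ψ : T → ℂ) ⟨m, hMT m.2⟩ =
        (charDegree (β : Q → ℂ) : ℂ) * (θ : M → ℂ) m := by
      intro m
      have := hψ ⟨⟨m, hMT m.2⟩, m.2⟩
      rw [(deg_spec β.2).1] at this
      exact this
    obtain ⟨h1, h2, h3⟩ := over_ind M θ.2 T hT hMT ψ.2 (deg_spec β.2).2.ne' hψ'
    refine ⟨⟨_, h1⟩, h3, ?_⟩
    have h4 := hψ' 1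
    have h5 : (⟨((1 : M) : X), hMT (1 : M).2⟩ : T) = 1 := rfl
    rw [h5, (deg_spec θ.2).1] at h4
    rw [h4, (deg_spec h1).1] at h2
    have h6 : charDegree (indFun T (ψ : T → ℂ)) =
        T.index * (charDegree (β : Q → ℂ) * charDegree (θ : M → ℂ)) := by exact_mod_cast h2
    rw [mul_assoc]
    exact h6
  -- the image in the quotient
  let ι : T ⧸ N →* X ⧸ M := QuotientGroup.map N M T.subtype (fun x hx => hx)
  have hι : Function.Injective ι := by
    rw [injective_iff_map_eq_one]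
    intro y hy
    obtain ⟨t, rfl⟩ := QuotientGroup.mk_surjective y
    have h1 : ((t : X) : X ⧸ M) = 1 := hy
    have h2 : (t : X) ∈ M := (QuotientGroup.eq_one_iff (t : X)).1 h1
    exact (QuotientGroup.eq_one_iff t).2 h2
  have hHi : ι.range.index = T.index := by
    have h1 : ι.range.comap (QuotientGroup.mk' M) = T := by
      ext x
      constructor
      · rintro ⟨y, hy⟩
        obtain ⟨t, rfl⟩ := QuotientGroup.mk_surjective y
        have h2 : ((t : X) : X ⧸ M) = (x : X ⧸ M) := hy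
        have h3 := QuotientGroup.eq.1 h2
        have h4 := T.mul_mem t.2 (hMT h3)
        rwa [mul_inv_cancel_left] at h4
      · intro hx
        exact ⟨((⟨x, hx⟩ : T) : T ⧸ N), rfl⟩
    rw [← Subgroup.index_comap_of_surjective ι.range (QuotientGroup.mk'_surjective M), h1]
  let κ : T ⧸ N →* Psl F := e.toMonoidHom.comp ι
  have hκ : Function.Injective κ := e.injective.comp hι
  have hκi : κ.range.index = T.index := by
    have h1 : κ.range = ι.range.map e.toMonoidHom := by
      rw [← MonoidHom.range_comp]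
    rw [h1]
    have h2 := Subgroup.index_map_equiv ι.range e
    rw [← hHi, ← h2]
    rfl
  have hTi : T.index ≠ 1 := fun h => hT1 (Subgroup.index_eq_one.1 h)
  have hκ1 : κ.range ≠ ⊤ := by
    intro h
    rw [h, Subgroup.index_top] at hκi
    exact hTi hκi.symm
  rcases sub_three heven h4.le hm1 hp1 κ.range hκ1 with h3 | ⟨h5, h6, h7⟩
  · -- three primes in the index
    rw [hκi] at h3
    obtain ⟨β, hβ⟩ := exists_over l hs hc
    obtain ⟨χ, hχ, hχd⟩ := hdeg β hβ
    exact ⟨χ, hχ, _, hχd, h3.of_dvd (Dvd.intro _ rfl)⟩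
  · rw [hκi] at h5
    -- a character of degree `≠ 1`
    obtain ⟨β, hβ, hβ1⟩ : ∃ β : IrrCharacter Q, Over π l (β : Q → ℂ) ∧ charDegree (β : Q → ℂ) ≠ 1 := by
      by_contra hcon
      push Not at hcon
      obtain ⟨β0, hβ0⟩ := exists_over l hs hc
      have hdeg0 := hcon β0 hβ0
      obtain ⟨lam, hlam⟩ := exists_linear hc β0.2 hβ0 (deg_spec β0.2).1 β0.2 hβ0 (deg_spec β0.2).1
        (by rw [hdeg0]; exact Nat.coprime_one_left 1)
      have hlin : ∀ η : IrrCharacter (T ⧸ N), (η : T ⧸ N → ℂ) 1 = 1 := by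
        intro η
        have hirr := Cfsg.Agent.CharactersDeep.ExtUnique.isIrr_mul_hom (isIrr_comp π hs η.2) lam
        have ho : Over π l (fun g => ((η : T ⧸ N → ℂ) ∘ π) g * lam g) := by
          intro g z
          have h1 : π (g * z) = π g := by rw [map_mul, (MonoidHom.mem_ker.1 z.2), mul_one]
          show (η : T ⧸ N → ℂ) (π (g * z)) * lam (g * z) = (η : T ⧸ N → ℂ) (π g) * lam g * l z
          rw [h1, map_mul, hlam, Units.val_mul, mul_assoc]
        have hb := hcon ⟨_, hirr⟩ ho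
        have h1 := (deg_spec hirr).1
        have hb' : charDegree (fun g => ((η : T ⧸ N → ℂ) ∘ π) g * (lam g : ℂ)) = 1 := hb
        rw [hb', Nat.cast_one] at h1
        have h2 : ((η : T ⧸ N → ℂ) ∘ π) 1 * (lam 1 : ℂ) = (η : T ⧸ N → ℂ) 1 := by
          show (η : T ⧸ N → ℂ) (π 1) * (lam 1 : ℂ) = _
          rw [map_one, map_one, Units.val_one, mul_one]
        rw [← h2]
        exact h1
      have hcomm := Cfsg.Agent.S0187.result.2 hlin
      apply h7
      refine ⟨⟨?_⟩⟩
      rintro ⟨_, y, rfl⟩ ⟨_, z, rfl⟩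
      apply Subtype.ext
      show κ y * κ z = κ z * κ y
      rw [← map_mul, ← map_mul, hcomm]
    obtain ⟨χ, hχ, hχd⟩ := hdeg β hβ
    refine ⟨χ, hχ, _, hχd, ?_⟩
    -- `T.index * β(1)` divides `|X : M|`
    have hθ0 : 0 < charDegree (θ : M → ℂ) := (deg_spec θ.2).2
    have hdvd := (H672.charDegree_dvd_of_over M χ.2 θ.2 ((H672.over_subtype_iff M _ _).2 hχ)).2
    rw [hχd, Nat.mul_div_cancel _ hθ0] at hdvd
    have hidx : M.index = (Fintype.card F + 1) * (Fintype.card F * (Fintype.card F - 1)) := by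
      rw [Subgroup.index_eq_card]
      exact (frame e).card_even heven
    rw [hidx, h5] at hdvd
    have hfd : charDegree (β : Q → ℂ) ∣ Fintype.card F * (Fintype.card F - 1) :=
      Nat.dvd_of_mul_dvd_mul_left (by omega) hdvd
    obtain ⟨r, hr, hrd⟩ := Nat.exists_prime_and_dvd hβ1
    obtain ⟨a, b, ha, hb, hab, had, hbd⟩ := hp1
    have hcop : Nat.Coprime (Fintype.card F * (Fintype.card F - 1)) (Fintype.card F + 1) :=
      Nat.Coprime.mul_left (coprime_succ _) (coprime_pred_succ (by omega) heven)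
    have key : ∀ c, c.Prime → c ∣ Fintype.card F + 1 → r ≠ c := by
      rintro c hc hcd rfl
      have := Nat.dvd_gcd (hrd.trans hfd) hcd
      rw [Nat.coprime_iff_gcd_eq_one.1 hcop] at this
      exact hc.one_lt.ne' (Nat.dvd_one.1 this)
    rw [h5]
    exact ⟨r, a, b, hr, ha, hb, key a ha had, key b hb hbd, hab, hrd.mul_left _, had.mul_right _,
      hbd.mul_right _⟩

include heven h4 e in
/-- **Characters over `θ`, three primes.** -/
theorem three_over (hm1 : TwoP (Fintype.card F - 1)) (hp1 : TwoP (Fintype.card F + 1)) :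
    (∃ χ : IrrCharacter X, classInner (fun m : M => (χ : X → ℂ) m) (θ : M → ℂ) ≠ 0 ∧
      ∃ d : ℕ, charDegree (χ : X → ℂ) = d * charDegree (θ : M → ℂ) ∧ ThreeP d) ∨
    (∃ χ : IrrCharacter X, ∀ m : M, (χ : X → ℂ) m = (θ : M → ℂ) m) := by
  by_cases hT : Cfsg.Agent.H672.inertia M (θ : M → ℂ) = ⊤
  · right
    refine extends_of_inv M heven h4 e θ ?_
    intro x n
    have : x ∈ Cfsg.Agent.H672.inertia M (θ : M → ℂ) := by rw [hT]; trivial
    exact Cfsg.Agent.H672.mem_inertia_iff.1 this n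
  · exact Or.inl (three_of_proper M heven h4 e θ hm1 hp1 hT)

end

end Cfsg.Agent.H714.Tri
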