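import Cfsg.Agent.H988.DG.Five
import Cfsg.Agent.H464.PslDeg
import Cfsg.Agent.H714.Tri.Out
import Cfsg.Agent.H714.Tri.Three

/-!
# Groups with a triangle-free degree graph: five primes in the simple section

* `outFact` : `H988.DG.OutFact`;
* `struct_five` : `G` non-solvable (given by the frame `T`), `Δ(G)` without triangle, five vertices, all of them dividing
  the order of the simple section: `G = PSL(2, 2 ^ f) × A`, `A` abelian, `2 ^ f ± 1` have exactly two prime divisors each.
-/

set_option autoImplicit false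
set_option linter.unusedSectionVars false

namespace Cfsg.Agent.H714.Tri

open Cfsg Subgroup Cfsg.Agent.H33 Cfsg.Agent.H988.DG
open Cfsg.Agent.Characters.Core

universe u

theorem outFact : OutFact.{u} := by
  intro Γ _ _ S _ F _ _ e hF hC t ht hdvd hnd
  obtain ⟨r, s, hr, hs, hrs, h1, h2, d, hd, h3⟩ := (out S e hF hC ht hdvd).1 hnd
  exact ⟨r, s, hr, hs, hrs, h1, h2, d, hd, by rwa [mul_assoc]⟩

/-- No degree is divisible by three primes. -/
theorem no_three {G : Type u} [Group G] (h3 : (degreeGraph G).CliqueFree 3) {n : ℕ} (hn : H33.IM n G) :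
    ¬ ThreeP n := by
  rintro ⟨a, b, c, ha, hb, hc, hab, hac, hbc, h1, h2, h4⟩
  refine not_cliqueFree_of_dvd ha hb hc hab hbc hac (im_mono hn ?_) h3
  have h5 : Nat.Coprime a b := (Nat.coprime_primes ha hb).2 hab
  have h6 : Nat.Coprime (a * b) c := Nat.Coprime.mul_left ((Nat.coprime_primes ha hc).2 hac) ((Nat.coprime_primes hb hc).2 hbc)
  exact Nat.Coprime.mul_dvd_of_dvd_of_dvd h6 (Nat.Coprime.mul_dvd_of_dvd_of_dvd h5 h1 h2) h4

theorem twoP_of_card {n : ℕ} (h : n.primeFactors.card = 2) : TwoP n := by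
  obtain ⟨a, b, hab, h1⟩ := Finset.card_eq_two.1 h
  have ha : a ∈ n.primeFactors := by rw [h1]; simp
  have hb : b ∈ n.primeFactors := by rw [h1]; simp
  rw [Nat.mem_primeFactors] at ha hb
  exact ⟨a, b, ha.1, hb.1, hab, ha.2.1, hb.2.1⟩

/-- Five primes in `|PSL(2,F)|`. -/
theorem card_five {F : Type} [Field F] [Fintype F] (hF : 4 ≤ Fintype.card F)
    (h3 : (degreeGraph (Matrix.ProjectiveSpecialLinearGroup (Fin 2) F)).CliqueFree 3)
    (h5 : 5 ≤ (Nat.card (Matrix.ProjectiveSpecialLinearGroup (Fin 2) F)).primeFactors.card) :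
    Even (Fintype.card F) ∧ (Fintype.card F - 1).primeFactors.card = 2 ∧ (Fintype.card F + 1).primeFactors.card = 2 := by
  classical
  have htri : ∀ a b c : ℕ, (degreeGraph (Matrix.ProjectiveSpecialLinearGroup (Fin 2) F)).Adj a b →
      (degreeGraph (Matrix.ProjectiveSpecialLinearGroup (Fin 2) F)).Adj b c →
      (degreeGraph (Matrix.ProjectiveSpecialLinearGroup (Fin 2) F)).Adj a c → False := by
    intro a b c h4 h5 h6
    refine h3 {a, b, c} ?_
    rw [SimpleGraph.is3Clique_triple_iff]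
    exact ⟨h4, h6, h5⟩
  have hle := Finset.card_le_card (primeFactors_psl_subset (F := F))
  have h1 := card_primeFactors_card (F := F)
  have hu1 := Finset.card_union_le (Fintype.card F).primeFactors
    ((Fintype.card F - 1).primeFactors ∪ (Fintype.card F + 1).primeFactors)
  have hu2 := Finset.card_union_add_card_inter (Fintype.card F - 1).primeFactors (Fintype.card F + 1).primeFactors
  have hcl : ∀ n : ℕ, (∀ a ∈ n.primeFactors, ∀ b ∈ n.primeFactors, a ≠ b →
      (degreeGraph (Matrix.ProjectiveSpecialLinearGroup (Fin 2) F)).Adj a b) → n.primeFactors.card ≤ 2 := by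
    intro n h2
    exact card_le_two (fun a _ b _ c _ _ _ _ h4 h5 h6 => htri a b c h4 h5 h6) h2
  rcases Nat.even_or_odd (Fintype.card F) with h | h
  · have hchar : CharP F 2 := by
      have h6 : ringChar F = 2 := FiniteField.even_card_iff_char_two.2 (Nat.even_iff.1 h)
      rw [← h6]
      exact ringChar.charP F
    obtain ⟨-, hadj⟩ := S4812.result F (Fintype.card F) rfl hF (Or.inl ⟨MulEquiv.refl _⟩)
    have h4 := hcl (Fintype.card F - 1) (by
      intro a ha b hb hab
      rw [Nat.mem_primeFactors] at ha hb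
      exact (hadj a b).2 ⟨hab, ha.1, hb.1, Or.inr ⟨ha.2.1, hb.2.1⟩⟩)
    have h6 := hcl (Fintype.card F + 1) (by
      intro a ha b hb hab
      rw [Nat.mem_primeFactors] at ha hb
      exact (hadj a b).2 ⟨hab, ha.1, hb.1, Or.inl ⟨ha.2.1, hb.2.1⟩⟩)
    exact ⟨h, by omega, by omega⟩
  · exfalso
    have h2m : (2 : ℕ) ∈ (Fintype.card F - 1).primeFactors ∩ (Fintype.card F + 1).primeFactors := by
      rw [Finset.mem_inter, Nat.mem_primeFactors, Nat.mem_primeFactors]
      rcases h with ⟨k, hk⟩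
      exact ⟨⟨Nat.prime_two, by omega, by omega⟩, Nat.prime_two, by omega, by omega⟩
    have hint : 1 ≤ ((Fintype.card F - 1).primeFactors ∩ (Fintype.card F + 1).primeFactors).card :=
      Finset.card_pos.2 ⟨2, h2m⟩
    by_cases h5' : Fintype.card F = 5
    · have := card_le_three (F := F) (Or.inr (Or.inl h5'))
      omega
    · have h6 : 5 < Fintype.card F := by
        rcases h with ⟨k, hk⟩
        omega
      have hodd : ringChar F ≠ 2 := by
        intro h7
        have := FiniteField.even_card_iff_char_two.1 h7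
        rw [Nat.odd_iff] at h
        omega
      have hpr : (ringChar F).Prime := CharP.char_is_prime F _
      have : Fact (ringChar F).Prime := ⟨hpr⟩
      have : CharP F (ringChar F) := ringChar.charP F
      obtain ⟨-, hadj⟩ := S4774.result F (ringChar F) hodd (Fintype.card F) rfl h6 (Or.inl ⟨MulEquiv.refl _⟩)
      have hsq : Fintype.card F ^ 2 - 1 = (Fintype.card F + 1) * (Fintype.card F - 1) := by
        have := Nat.sq_sub_sq (Fintype.card F) 1
        rwa [one_pow] at this
      have h7 := hcl (Fintype.card F - 1) (by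
        intro a ha b hb hab
        rw [Nat.mem_primeFactors] at ha hb
        refine (hadj a b).2 ⟨hab, ha.1, hb.1, ?_, ?_, Or.inr (Or.inr (Or.inr ⟨ha.2.1, hb.2.1⟩))⟩
        · rw [hsq]; exact ha.2.1.mul_left _
        · rw [hsq]; exact hb.2.1.mul_left _)
      have h8 := hcl (Fintype.card F + 1) (by
        intro a ha b hb hab
        rw [Nat.mem_primeFactors] at ha hb
        refine (hadj a b).2 ⟨hab, ha.1, hb.1, ?_, ?_, Or.inr (Or.inr (Or.inl ⟨ha.2.1, hb.2.1⟩))⟩
        · rw [hsq]; exact ha.2.1.mul_right _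
        · rw [hsq]; exact hb.2.1.mul_right _)
      omega

/-- A number `q ± 1` with two primes, multiplied by another prime: three primes for one of the signs. -/
theorem three_of_prime {q p : ℕ} (hq : 1 ≤ q) (he : Even q) (h1 : TwoP (q - 1)) (h2 : TwoP (q + 1)) (hp : p.Prime) :
    ThreeP (p * (q - 1)) ∨ ThreeP (p * (q + 1)) := by
  have hcop := coprime_pred_succ hq he
  by_cases hp1 : p ∣ q - 1
  · right
    obtain ⟨a, b, ha, hb, hab, had, hbd⟩ := h2
    have key : ∀ c, c.Prime → c ∣ q + 1 → p ≠ c := by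
      rintro c hc hcd rfl
      have := Nat.dvd_gcd hp1 hcd
      rw [Nat.coprime_iff_gcd_eq_one.1 hcop] at this
      exact hc.one_lt.ne' (Nat.dvd_one.1 this)
    exact ⟨p, a, b, hp, ha, hb, key a ha had, key b hb hbd, hab, Dvd.intro _ rfl, had.mul_left _, hbd.mul_left _⟩
  · left
    obtain ⟨a, b, ha, hb, hab, had, hbd⟩ := h1
    have key : ∀ c, c ∣ q - 1 → p ≠ c := by
      rintro c hcd rfl
      exact hp1 hcd
    exact ⟨p, a, b, hp, ha, hb, key a had, key b hbd, hab, Dvd.intro _ rfl, had.mul_left _, hbd.mul_left _⟩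

section frame

variable {G : Type u} [Group G] [Finite G] (T : Fr G)

theorem index_Kb : T.Kb.index = T.K.index := by
  have h2 : T.Kb.comap (QuotientGroup.mk' T.R) = T.K := by
    rw [Subgroup.comap_map_eq, QuotientGroup.ker_mk']
    exact sup_eq_left.2 T.le
  rw [← Subgroup.index_comap_of_surjective T.Kb (QuotientGroup.mk'_surjective T.R), h2]

/-- Degrees over an outer prime, `|F|` even. -/
theorem outer_even (heven : Even (Fintype.card T.F)) (h4 : 4 < Fintype.card T.F) {t : ℕ} (ht : t.Prime)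
    (hdvd : t ∣ T.K.index) :
    H33.IM (t * (Fintype.card T.F - 1)) G ∧ H33.IM (t * (Fintype.card T.F + 1)) G := by
  have h1 := (out T.Kb T.e T.hF T.cen ht (by rw [index_Kb]; exact hdvd)).2 heven
  obtain ⟨⟨d, ⟨χ, rfl⟩, hd⟩, h2⟩ := h1
  obtain ⟨d', ⟨χ', rfl⟩, hd'⟩ := h2 h4
  exact ⟨H33.IM.of_quotient T.R ⟨χ, hd⟩, H33.IM.of_quotient T.R ⟨χ', hd'⟩⟩

variable (h3 : (degreeGraph G).CliqueFree 3) (heven : Even (Fintype.card T.F)) (h4 : 4 < Fintype.card T.F)
  (hm1 : TwoP (Fintype.card T.F - 1)) (hp1 : TwoP (Fintype.card T.F + 1))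

include h3 heven h4 hm1 hp1 in
theorem index_K : T.K = ⊤ := by
  rw [← Subgroup.index_eq_one]
  by_contra hne
  obtain ⟨t, ht, htd⟩ := Nat.exists_prime_and_dvd hne
  obtain ⟨h1, h2⟩ := outer_even T heven h4 ht htd
  rcases three_of_prime (by omega) heven hm1 hp1 ht with h | h
  · exact no_three h3 h1 h
  · exact no_three h3 h2 h

include h3 heven h4 hm1 hp1 in
/-- Characters of the radical are linear and extend. -/
theorem ker_char (θ : IrrCharacter T.f.ker) :
    (θ : T.f.ker → ℂ) 1 = 1 ∧ ∃ χ : IrrCharacter T.K, ∀ m : T.f.ker, (χ : T.K → ℂ) m = (θ : T.f.ker → ℂ) m := by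
  classical
  have := Fintype.ofFinite T.f.ker
  have e := QuotientGroup.quotientKerEquivOfSurjective T.f T.f_surj
  rcases three_over T.f.ker heven h4 e θ hm1 hp1 with ⟨χ, -, d, hd, hd3⟩ | ⟨χ, hχ⟩
  · exfalso
    refine no_three h3 (T.im_of_K (⟨χ, Dvd.intro _ hd.symm⟩ : H33.IM d T.K)) hd3
  · refine ⟨?_, χ, hχ⟩
    obtain ⟨n, hn0, hn⟩ := isIrr_apply_one θ.2
    have hn' : (χ : T.K → ℂ) 1 = n := by
      rw [← hn]
      exact hχ 1
    by_contra hne
    have hn1 : n ≠ 1 := by
      rintro rfl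
      exact hne (by rw [hn, Nat.cast_one])
    obtain ⟨p, hp, hpn⟩ := Nat.exists_prime_and_dvd hn1
    have h7 : 7 ≤ Fintype.card T.F := by
      obtain ⟨a, b, ha, hb, hab, had, hbd⟩ := hm1
      have h5 : a * b ∣ Fintype.card T.F - 1 :=
        Nat.Coprime.mul_dvd_of_dvd_of_dvd ((Nat.coprime_primes ha hb).2 hab) had hbd
      have h6 := Nat.le_of_dvd (by omega) h5
      have ha2 := ha.two_le
      have hb2 := hb.two_le
      have : 6 ≤ a * b := by
        rcases Nat.lt_or_ge a 3 with h | h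
        · have : a = 2 := by omega
          subst this
          have : 3 ≤ b := by omega
          omega
        · nlinarith
      omega
    obtain ⟨hq1, hq2⟩ := H464.PslDeg.psl_degrees (F := T.F) h7
    have hres : IsIrrCharacter T.f.ker (fun k : T.f.ker => (χ : T.K → ℂ) k) := by
      have : (fun k : T.f.ker => (χ : T.K → ℂ) k) = (θ : T.f.ker → ℂ) := funext hχ
      rw [this]
      exact θ.2
    have hdeg : ∀ b ∈ charDegrees (Matrix.ProjectiveSpecialLinearGroup (Fin 2) T.F), H33.IM (p * b) G := by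
      intro b hb
      obtain ⟨ψ, hψ⟩ := H681.DegBasic.gallagher T.f T.f_surj T.f.ker (fun k hk => hk) χ.2 hres hn' hb
      refine T.im_of_K ⟨ψ, ?_⟩
      rw [hψ, mul_comm b n]
      exact Nat.mul_dvd_mul_right hpn b
    rcases three_of_prime (by omega) heven hm1 hp1 hp with h | h
    · exact no_three h3 (hdeg _ hq2) h
    · exact no_three h3 (hdeg _ hq1) h

include h3 heven h4 hm1 hp1 in
theorem ker_comm : ∀ a b : T.f.ker, a * b = b * a :=
  S0187.result.2 fun θ => (ker_char T h3 heven h4 hm1 hp1 θ).1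

include h3 heven h4 hm1 hp1 in
theorem ker_central : T.f.ker ≤ center T.K := by
  intro r hr
  rw [Subgroup.mem_center_iff]
  intro k
  have hmem : k * r * k⁻¹ ∈ T.f.ker := (MonoidHom.normal_ker T.f).conj_mem r hr k
  have h1 : IsConj (⟨k * r * k⁻¹, hmem⟩ : T.f.ker) ⟨r, hr⟩ := by
    refine Characters.GaloisIrr.isConj_of_forall_irr fun θ hθ => ?_
    obtain ⟨-, χ, hχ⟩ := ker_char T h3 heven h4 hm1 hp1 ⟨θ, hθ⟩
    have h2 := hχ ⟨k * r * k⁻¹, hmem⟩
    have h5 := hχ ⟨r, hr⟩
    have h6 : (χ : T.K → ℂ) (k * r * k⁻¹) = (χ : T.K → ℂ) r := isIrr_isClassFunction χ.2 r k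
    exact h2.symm.trans (h6.trans h5)
  obtain ⟨c, hc⟩ := isConj_iff.1 h1
  rw [ker_comm T h3 heven h4 hm1 hp1 c, mul_inv_cancel_right] at hc
  have h2 : k * r * k⁻¹ = r := congrArg Subtype.val hc
  exact (mul_inv_eq_iff_eq_mul.1 h2)

include h3 in
/-- **Structure**: five primes, all of them in the simple section. -/
theorem struct_five (hsub : ∀ p ∈ degreePrimes G, p ∣ Nat.card T.L) (hcard : Set.ncard (degreePrimes G) = 5) :
    ∃ H A : Subgroup G, H.Normal ∧ A.Normal ∧ H ⊓ A = ⊥ ∧ H ⊔ A = ⊤ ∧ IsMulCommutative A ∧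
      ∃ (f : ℕ) (F : Type) (_ : Field F) (_ : Fintype F), Fintype.card F = 2 ^ f ∧
        (2 ^ f - 1).primeFactors.card = 2 ∧ (2 ^ f + 1).primeFactors.card = 2 ∧
        Nonempty (↥H ≃* Matrix.ProjectiveSpecialLinearGroup (Fin 2) F) := by
  classical
  have hL3 : (degreeGraph T.L).CliqueFree 3 := by
    refine SimpleGraph.CliqueFree.anti ?_ h3
    intro p q h
    obtain ⟨h1, h2, h4, h5⟩ := H988.DG.adj_iff.1 h
    exact H988.DG.adj_iff.2 ⟨h1, h2, h4, T.im_of_L h5⟩
  have h5 : 5 ≤ (Nat.card T.L).primeFactors.card := by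
    obtain ⟨P, hP⟩ := exists_finset G
    rw [← hP, Set.ncard_coe_finset] at hcard
    rw [← hcard]
    refine Finset.card_le_card fun p hp => ?_
    have hp' : p ∈ degreePrimes G := by rw [← hP]; exact hp
    rw [Nat.mem_primeFactors]
    exact ⟨hp'.1, hsub p hp', Nat.card_pos.ne'⟩
  obtain ⟨heven, hcm, hcp⟩ := card_five T.hF hL3 h5
  have hm1 := twoP_of_card hcm
  have hp1 := twoP_of_card hcp
  have h4 : 4 < Fintype.card T.F := by
    rcases lt_or_eq_of_le T.hF with h | h
    · exact h
    · exfalso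
      exact absurd (h5.trans (card_le_three (F := T.F) (Or.inl h.symm))) (by norm_num)
  have hK := index_K T h3 heven h4 hm1 hp1
  have hcen := ker_central T h3 heven h4 hm1 hp1
  have hcomm := ker_comm T h3 heven h4 hm1 hp1
  have hinf := split_central heven h4 T.f T.f_surj hcen (MulEquiv.refl T.L)
  have hsup := sup_ker_eq_top h4 T.f T.f_surj (MulEquiv.refl T.L)
  have hHn : ((_root_.commutator T.K).map T.K.subtype).Normal := inferInstance
  have hkermap : T.f.ker.map T.K.subtype = T.R := by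
    ext x
    constructor
    · rintro ⟨y, hy, rfl⟩
      exact T.mem_ker.1 hy
    · intro hx
      exact ⟨⟨x, T.le hx⟩, T.mem_ker.2 hx, rfl⟩
  refine ⟨(_root_.commutator T.K).map T.K.subtype, T.R, hHn, T.hR, ?_, ?_, ?_, ?_⟩
  · rw [← hkermap, ← Subgroup.map_inf_eq _ _ _ T.K.subtype_injective, hinf, Subgroup.map_bot]
  · rw [← hkermap, ← Subgroup.map_sup, hsup, ← MonoidHom.range_eq_map, Subgroup.range_subtype, hK]
  · refine ⟨⟨fun a b => ?_⟩⟩
    have h6 := hcomm (T.kerEquiv.symm a) (T.kerEquiv.symm b)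
    rw [← map_mul, ← map_mul] at h6
    exact T.kerEquiv.symm.injective h6
  · have hchar : CharP T.F 2 := by
      have h6 : ringChar T.F = 2 := FiniteField.even_card_iff_char_two.2 (Nat.even_iff.1 heven)
      rw [← h6]
      exact ringChar.charP T.F
    obtain ⟨f, -, hf⟩ := FiniteField.card T.F 2
    refine ⟨f, T.F, inferInstance, inferInstance, hf, ?_, ?_, ?_⟩
    · rw [← hf]; exact hcm
    · rw [← hf]; exact hcp
    · let g : _root_.commutator T.K →* T.L := T.f.comp (_root_.commutator T.K).subtype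
      have hg : Function.Bijective g := by
        constructor
        · rw [injective_iff_map_eq_one]
          intro x hx
          have h6 : (x : T.K) ∈ _root_.commutator T.K ⊓ T.f.ker := ⟨x.2, hx⟩
          rw [hinf, mem_bot] at h6
          exact Subtype.ext h6
        · intro s
          obtain ⟨x, rfl⟩ := T.f_surj s
          have hx : x ∈ _root_.commutator T.K ⊔ T.f.ker := hsup ▸ mem_top x
          obtain ⟨a, ha, z, hz, rfl⟩ := Subgroup.mem_sup_of_normal_left.1 hx
          refine ⟨⟨a, ha⟩, ?_⟩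
          show T.f a = T.f (a * z)
          rw [map_mul, MonoidHom.mem_ker.1 hz, mul_one]
      exact ⟨((_root_.commutator T.K).equivMapOfInjective T.K.subtype T.K.subtype_injective).symm.trans
        (MulEquiv.ofBijective g hg)⟩

end frame

end Cfsg.Agent.H714.Tri
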