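import Cfsg.Agent.H714.Tri.OutP
import Cfsg.Agent.Characters.Permutation
import Cfsg.Agent.S2299
import Cfsg.Agent.S2300

/-!
# Characters of `PSL(2,F)` which are not invariant under an outer automorphism

* `exists_nonfixed_even` : `|F| ≥ 8` even: of degree `|F| + 1` and of degree `|F| - 1`;
* `exists_nonfixed_odd` : `|F|` odd, the field automorphism of order at least three: of degree `|F| ± 1`.
-/

set_option autoImplicit false
set_option linter.unusedSectionVars false

namespace Cfsg.Agent.H714.Tri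

open Cfsg
open Cfsg.Agent.Characters.Core

section general

variable {G : Type} [Group G] [Finite G]

theorem irr_comp_aut (α : MulAut G) {χ : G → ℂ} (hχ : IsIrrCharacter G χ) : IsIrrCharacter G (χ ∘ α) :=
  isIrr_comp α.toMonoidHom α.surjective hχ

theorem card_irr_eq (G : Type) [Group G] [Finite G] : Nat.card (IrrCharacter G) = Nat.card (ConjClasses G) := by
  have h := Characters.Permutation.card_fixed_eq (G := G) id (1 : Equiv.Perm (ConjClasses G)) (by
    intro χ g g' h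
    have h1 : ConjClasses.mk g' = ConjClasses.mk g := h
    obtain ⟨c, hc⟩ := isConj_iff.1 (ConjClasses.mk_eq_mk_iff_isConj.1 h1.symm)
    show (χ : G → ℂ) g' = (χ : G → ℂ) g
    rw [← hc]
    exact isIrr_isClassFunction χ.2 g c)
  have h1 : Nat.card {χ : IrrCharacter G // id χ = χ} = Nat.card (IrrCharacter G) :=
    Nat.card_congr (Equiv.subtypeUnivEquiv fun _ => rfl)
  have h2 : Nat.card {C : ConjClasses G // (1 : Equiv.Perm (ConjClasses G)) C = C} = Nat.card (ConjClasses G) :=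
    Nat.card_congr (Equiv.subtypeUnivEquiv fun _ => rfl)
  rw [← h1, h, h2]

/-- The class map of an automorphism. -/
def cmap (α : MulAut G) : Equiv.Perm (ConjClasses G) where
  toFun := ConjClasses.map α.toMonoidHom
  invFun := ConjClasses.map (α⁻¹ : MulAut G).toMonoidHom
  left_inv := by
    intro C
    obtain ⟨x, rfl⟩ := ConjClasses.mk_surjective C
    show ConjClasses.mk (α⁻¹ (α x)) = _
    rw [← MulAut.mul_apply, inv_mul_cancel]
    rfl
  right_inv := by
    intro C
    obtain ⟨x, rfl⟩ := ConjClasses.mk_surjective C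
    show ConjClasses.mk (α (α⁻¹ x)) = _
    rw [← MulAut.mul_apply, mul_inv_cancel]
    rfl

theorem card_add_nonfixed {T : Type} [Finite T] (f : T → T) :
    Nat.card T = Nat.card {x : T // f x = x} + Nat.card {x : T // f x ≠ x} := by
  classical
  rw [← Nat.card_sum]
  exact Nat.card_congr (Equiv.sumCompl (fun x => f x = x)).symm

/-- The number of characters, of classes, moved by an automorphism. -/
theorem card_nonfixed (α : MulAut G) :
    Nat.card {χ : IrrCharacter G // (χ : G → ℂ) ∘ α ≠ χ} =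
      Nat.card {C : ConjClasses G // cmap α⁻¹ C ≠ C} := by
  classical
  have hfin := finite_irr (G := G)
  let f : IrrCharacter G → IrrCharacter G := fun χ => ⟨(χ : G → ℂ) ∘ α, irr_comp_aut α χ.2⟩
  have h := Characters.Permutation.card_fixed_eq (G := G) f (cmap α⁻¹) (by
    intro χ g g' h
    have h1 : ConjClasses.mk g' = ConjClasses.mk (α⁻¹ g) := h
    obtain ⟨c, hc⟩ := isConj_iff.1 (ConjClasses.mk_eq_mk_iff_isConj.1 h1.symm)
    show (χ : G → ℂ) (α g') = (χ : G → ℂ) g
    have h2 : α g' = α c * g * (α c)⁻¹ := by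
      rw [← hc, map_mul, map_mul, map_inv]
      congr 2
      rw [← MulAut.mul_apply, mul_inv_cancel]
      rfl
    rw [h2]
    exact isIrr_isClassFunction χ.2 g (α c))
  have h1 := card_add_nonfixed f
  have h2 := card_add_nonfixed (cmap α⁻¹ : ConjClasses G → ConjClasses G)
  have h3 := card_irr_eq G
  have h4 : Nat.card {χ : IrrCharacter G // f χ ≠ χ} = Nat.card {χ : IrrCharacter G // (χ : G → ℂ) ∘ α ≠ χ} := by
    refine Nat.card_congr (Equiv.subtypeEquivRight fun χ => ?_)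
    rw [not_iff_not]
    exact Subtype.ext_iff
  rw [← h4]
  omega

end general

open Cfsg.Agent.ClassicalGeometry.AutPSL.Root

variable {F : Type} [Field F] [Fintype F]

instance finitePsl : Finite (Psl F) := Finite.of_surjective pr pr_surjective

/-- Traces moved by the field automorphism give moved characters. -/
theorem card_moved_le (α : MulAut (Psl F)) (σ : F ≃+* F) (hσ : ∀ x, tsq (α x) = σ (tsq x)) :
    Nat.card {u : F // (∃ t : F, t ^ 2 = u) ∧ σ u ≠ u} ≤
      Nat.card {χ : IrrCharacter (Psl F) // (χ : Psl F → ℂ) ∘ α ≠ χ} := by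
  classical
  rw [card_nonfixed]
  have hex : ∀ u : {u : F // (∃ t : F, t ^ 2 = u) ∧ σ u ≠ u}, ∃ x : Psl F, tsq x = u.1 := by
    rintro ⟨u, ⟨t, rfl⟩, -⟩
    exact exists_tsq t
  choose x hx using hex
  have hinv : ∀ y z : Psl F, ConjClasses.mk y = ConjClasses.mk z → tsq y = tsq z := by
    intro y z h
    obtain ⟨c, hc⟩ := isConj_iff.1 (ConjClasses.mk_eq_mk_iff_isConj.1 h)
    rw [← hc, tsq_conj]
  have hmoved : ∀ u, cmap α⁻¹ (ConjClasses.mk (x u)) ≠ ConjClasses.mk (x u) := by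
    intro u h
    have h1 : ConjClasses.mk (α⁻¹ (x u)) = ConjClasses.mk (x u) := h
    have h2 := hinv _ _ h1
    have h3 : tsq (x u) = σ (tsq (α⁻¹ (x u))) := by
      rw [← hσ, ← MulAut.mul_apply, mul_inv_cancel]
      rfl
    rw [h2, hx] at h3
    exact u.2.2 h3.symm
  refine Nat.card_le_card_of_injective
    (fun u => (⟨ConjClasses.mk (x u), hmoved u⟩ : {C : ConjClasses (Psl F) // cmap α⁻¹ C ≠ C})) ?_
  intro u v h
  have h1 : ConjClasses.mk (x u) = ConjClasses.mk (x v) := congrArg Subtype.val h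
  have h2 := hinv _ _ h1
  rw [hx, hx] at h2
  exact Subtype.ext h2

/-- Inflation to `SL(2,F)`. -/
def infl (χ : IrrCharacter (Psl F)) : IrrCharacter (Matrix.SpecialLinearGroup (Fin 2) F) :=
  ⟨(χ : Psl F → ℂ) ∘ pr, isIrr_comp pr pr_surjective χ.2⟩

theorem infl_one (χ : IrrCharacter (Psl F)) :
    (infl χ : Matrix.SpecialLinearGroup (Fin 2) F → ℂ) 1 = (χ : Psl F → ℂ) 1 := by
  show (χ : Psl F → ℂ) (pr 1) = _
  rw [map_one]

theorem infl_injective : Function.Injective (infl (F := F)) := by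
  intro χ ψ h
  have h1 : (χ : Psl F → ℂ) ∘ pr = (ψ : Psl F → ℂ) ∘ pr := congrArg Subtype.val h
  apply Subtype.ext
  funext x
  obtain ⟨g, rfl⟩ := pr_surjective x
  exact congrFun h1 g

theorem fixed_of_unique {d : ℂ}
    (h : Nat.card {χ : IrrCharacter (Matrix.SpecialLinearGroup (Fin 2) F) //
      (χ : Matrix.SpecialLinearGroup (Fin 2) F → ℂ) 1 = d} = 1) (α : MulAut (Psl F))
    (χ : IrrCharacter (Psl F)) (hχ : (χ : Psl F → ℂ) 1 = d) : (χ : Psl F → ℂ) ∘ α = χ := by
  have hsub := (Nat.card_eq_one_iff_unique.1 h).1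
  have h1 : (⟨infl ⟨(χ : Psl F → ℂ) ∘ α, irr_comp_aut α χ.2⟩, by
      rw [infl_one]
      show (χ : Psl F → ℂ) (α 1) = d
      rw [map_one, hχ]⟩ : {χ : IrrCharacter (Matrix.SpecialLinearGroup (Fin 2) F) //
      (χ : Matrix.SpecialLinearGroup (Fin 2) F → ℂ) 1 = d}) = ⟨infl χ, by rw [infl_one, hχ]⟩ :=
    hsub.elim _ _
  have h2 := infl_injective (congrArg Subtype.val h1)
  exact congrArg Subtype.val h2

theorem card_le_of_degree {d : ℂ} (α : MulAut (Psl F))
    (h : ∀ χ : IrrCharacter (Psl F), (χ : Psl F → ℂ) ∘ α ≠ χ → (χ : Psl F → ℂ) 1 = d) :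
    Nat.card {χ : IrrCharacter (Psl F) // (χ : Psl F → ℂ) ∘ α ≠ χ} ≤
      Nat.card {χ : IrrCharacter (Matrix.SpecialLinearGroup (Fin 2) F) //
        (χ : Matrix.SpecialLinearGroup (Fin 2) F → ℂ) 1 = d} := by
  have hfin := finite_irr (G := Matrix.SpecialLinearGroup (Fin 2) F)
  refine Nat.card_le_card_of_injective (fun χ => ⟨infl χ.1, by rw [infl_one]; exact h χ.1 χ.2⟩) ?_
  intro χ ψ hh
  exact Subtype.ext (infl_injective (congrArg Subtype.val hh))

theorem card_fixed_field (σ : F ≃+* F) :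
    Nat.card F = Nat.card {x : F // σ x = x} + Nat.card {x : F // σ x ≠ x} := by
  classical
  rw [← Nat.card_sum]
  exact Nat.card_congr (Equiv.sumCompl (fun x => σ x = x)).symm

theorem exists_nonfixed_even [CharP F 2] (hq : 4 ≤ Fintype.card F) {α : MulAut (Psl F)} {σ : F ≃+* F}
    (hσ : ∀ x, tsq (α x) = σ (tsq x)) (hσ1 : σ ≠ 1) :
    (4 < Fintype.card F → ∃ χ : IrrCharacter (Psl F), (χ : Psl F → ℂ) 1 = (Fintype.card F : ℂ) + 1 ∧
      (χ : Psl F → ℂ) ∘ α ≠ χ) ∧
    ∃ χ : IrrCharacter (Psl F), (χ : Psl F → ℂ) 1 = (Fintype.card F : ℂ) - 1 ∧ (χ : Psl F → ℂ) ∘ α ≠ χ := by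
  classical
  obtain ⟨h1, h2⟩ := S2300.result (F := F)
  obtain ⟨hn1, hnq, hnp, hnm⟩ := h2 hq
  have hmv := card_moved_le α σ hσ
  have heq : Nat.card {u : F // (∃ t : F, t ^ 2 = u) ∧ σ u ≠ u} = Nat.card {x : F // σ x ≠ x} := by
    refine Nat.card_congr (Equiv.subtypeEquivRight fun u => ?_)
    constructor
    · exact fun h => h.2
    · intro h
      obtain ⟨c, hc⟩ := FiniteField.isSquare_of_char_two (CharP.ringChar_of_prime_eq_zero Nat.prime_two
        (by exact_mod_cast CharP.cast_eq_zero F 2)) u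
      exact ⟨⟨c, by rw [hc, pow_two]⟩, h⟩
  rw [heq] at hmv
  have hsum := card_fixed_field σ
  have hsq := StdL2.FGal.sq_le σ hσ1
  have hge := StdL2.FGal.one_lt_card_fixed σ
  rw [Nat.card_eq_fintype_card (α := F)] at hsum hsq
  have hcases : ∀ χ : IrrCharacter (Psl F), (χ : Psl F → ℂ) ∘ α ≠ χ →
      (χ : Psl F → ℂ) 1 = (Fintype.card F : ℂ) - 1 ∨ (χ : Psl F → ℂ) 1 = (Fintype.card F : ℂ) + 1 := by
    intro χ hχ
    have h3 := h1 (infl χ) (infl χ).2
    rw [infl_one] at h3
    rcases h3 with h3 | h3 | h3 | h3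
    · exact absurd (fixed_of_unique hn1 α χ h3) hχ
    · exact Or.inl h3
    · exact absurd (fixed_of_unique hnq α χ h3) hχ
    · exact Or.inr h3
  set q0 := Nat.card {x : F // σ x = x} with hq0
  have hq0q : q0 * q0 ≤ Fintype.card F := by rw [← pow_two]; exact hsq
  constructor
  · intro h4
    by_contra hcon
    push Not at hcon
    have h5 := card_le_of_degree (d := (Fintype.card F : ℂ) - 1) α (fun χ hχ => by
      rcases hcases χ hχ with h | h
      · exact h
      · exact absurd (hcon χ h) hχ)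
    rw [hnm] at h5
    have h6 : Fintype.card F ≤ 2 * q0 := by omega
    have h7 : q0 ≤ 2 := by nlinarith
    omega
  · by_contra hcon
    push Not at hcon
    have h5 := card_le_of_degree (d := (Fintype.card F : ℂ) + 1) α (fun χ hχ => by
      rcases hcases χ hχ with h | h
      · exact absurd (hcon χ h) hχ
      · exact h)
    rw [hnp] at h5
    have h6 : Fintype.card F + 1 ≤ 2 * q0 := by omega
    nlinarith

theorem card_sq_ge : Fintype.card F ≤ 2 * Nat.card {u : F // ∃ t : F, t ^ 2 = u} := by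
  classical
  let r : {u : F // ∃ t : F, t ^ 2 = u} → F := fun u => u.2.choose
  have hr : ∀ u, r u ^ 2 = u.1 := fun u => u.2.choose_spec
  let f : F → {u : F // ∃ t : F, t ^ 2 = u} × Bool := fun t => (⟨t ^ 2, t, rfl⟩, decide (t = r ⟨t ^ 2, t, rfl⟩))
  have hf : Function.Injective f := by
    intro s t h
    have h1 : s ^ 2 = t ^ 2 := congrArg (fun x => x.1.1) h
    have h1' : (⟨s ^ 2, s, rfl⟩ : {u : F // ∃ t : F, t ^ 2 = u}) = ⟨t ^ 2, t, rfl⟩ := Subtype.ext h1
    have h2 : decide (s = r ⟨s ^ 2, s, rfl⟩) = decide (t = r ⟨t ^ 2, t, rfl⟩) := congrArg (fun x => x.2) h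
    rw [h1'] at h2
    have h3 := hr ⟨t ^ 2, t, rfl⟩
    rw [decide_eq_decide] at h2
    by_cases h4 : t = r ⟨t ^ 2, t, rfl⟩
    · rw [h4]; exact h2.2 h4
    · have h5 : s ≠ r ⟨t ^ 2, t, rfl⟩ := fun h => h4 (h2.1 h)
      generalize r ⟨t ^ 2, t, rfl⟩ = w at h3 h4 h5
      have h6 : t = -w := by
        rcases sq_eq_sq_iff_eq_or_eq_neg.1 (h3.symm : t ^ 2 = w ^ 2) with h | h
        · exact absurd h h4
        · exact h
      have h7 : s = -w := by
        rcases sq_eq_sq_iff_eq_or_eq_neg.1 (h1.trans h3.symm : s ^ 2 = w ^ 2) with h | h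
        · exact absurd h h5
        · exact h
      rw [h6, h7]
  have h := Nat.card_le_card_of_injective f hf
  rw [Nat.card_prod, Nat.card_eq_fintype_card (α := Bool), Fintype.card_bool, Nat.card_eq_fintype_card (α := F)] at h
  omega

theorem card_moved_sq_ge (σ : F ≃+* F) :
    Nat.card {u : F // ∃ t : F, t ^ 2 = u} ≤ Nat.card {x : F // σ x = x} +
      Nat.card {u : F // (∃ t : F, t ^ 2 = u) ∧ σ u ≠ u} := by
  classical
  rw [← Nat.card_sum]
  let f : {u : F // ∃ t : F, t ^ 2 = u} → {x : F // σ x = x} ⊕ {u : F // (∃ t : F, t ^ 2 = u) ∧ σ u ≠ u} :=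
    fun u => if h : σ u.1 = u.1 then Sum.inl ⟨u.1, h⟩ else Sum.inr ⟨u.1, u.2, h⟩
  refine Nat.card_le_card_of_injective f ?_
  intro u v h
  by_cases hu : σ u.1 = u.1 <;> by_cases hv : σ v.1 = v.1
  · simp only [f, dif_pos hu, dif_pos hv, Sum.inl.injEq, Subtype.mk.injEq] at h
    exact Subtype.ext h
  · simp only [f, dif_pos hu, dif_neg hv, reduceCtorEq] at h
  · simp only [f, dif_neg hu, dif_pos hv, reduceCtorEq] at h
  · simp only [f, dif_neg hu, dif_neg hv, Sum.inr.injEq, Subtype.mk.injEq] at h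
    exact Subtype.ext h

theorem exists_nonfixed_odd (hodd : Odd (Fintype.card F)) {α : MulAut (Psl F)} {σ : F ≃+* F}
    (hσ : ∀ x, tsq (α x) = σ (tsq x)) (hσ3 : 3 ≤ orderOf σ) :
    ∃ χ : IrrCharacter (Psl F), ((χ : Psl F → ℂ) 1 = (Fintype.card F : ℂ) + 1 ∨
      (χ : Psl F → ℂ) 1 = (Fintype.card F : ℂ) - 1) ∧ (χ : Psl F → ℂ) ∘ α ≠ χ := by
  classical
  have hfin := finite_irr (G := Matrix.SpecialLinearGroup (Fin 2) F)
  have hcard := StdL2.FGal.card_fixed σ
  have hge := StdL2.FGal.one_lt_card_fixed σ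
  rw [Nat.card_eq_fintype_card (α := F)] at hcard
  set q0 := Nat.card {x : F // σ x = x} with hq0
  have h3 : q0 ^ 3 ≤ Fintype.card F := by
    rw [hcard]
    exact Nat.pow_le_pow_right (by omega) hσ3
  have hq03 : 3 ≤ q0 := by
    by_contra h
    have h2 : q0 = 2 := by omega
    rw [hcard, h2, Nat.odd_iff] at hodd
    have h4 : 2 ∣ 2 ^ orderOf σ := dvd_pow_self 2 (by omega)
    omega
  have h27 : 9 * q0 ≤ Fintype.card F := by
    have : 9 * q0 ≤ q0 ^ 3 := by
      have : q0 ^ 3 = q0 * q0 * q0 := by ring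
      rw [this]
      exact Nat.mul_le_mul_right _ (by nlinarith)
    omega
  obtain ⟨h1, h2⟩ := S2299.result (F := F) hodd
  obtain ⟨hn1, hnq, -, -, hnp, hnm⟩ := h2 (by omega)
  have hmv := card_moved_le α σ hσ
  have hms := card_moved_sq_ge σ
  have hs := card_sq_ge (F := F)
  by_contra hcon
  push Not at hcon
  have hcases : ∀ χ : IrrCharacter (Psl F), (χ : Psl F → ℂ) ∘ α ≠ χ →
      (χ : Psl F → ℂ) 1 = (((Fintype.card F + 1) / 2 : ℕ) : ℂ) ∨
      (χ : Psl F → ℂ) 1 = (((Fintype.card F - 1) / 2 : ℕ) : ℂ) := by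
    intro χ hχ
    have h3 := h1 (infl χ) (infl χ).2
    rw [infl_one] at h3
    rcases h3 with h3 | h3 | h3 | h3 | h3 | h3
    · exact absurd (fixed_of_unique hn1 α χ h3) hχ
    · exact absurd (fixed_of_unique hnq α χ h3) hχ
    · exact absurd (hcon χ (Or.inl h3)) hχ
    · exact absurd (hcon χ (Or.inr h3)) hχ
    · exact Or.inl h3
    · exact Or.inr h3
  have hle : Nat.card {χ : IrrCharacter (Psl F) // (χ : Psl F → ℂ) ∘ α ≠ χ} ≤ 4 := by
    let A := {χ : IrrCharacter (Matrix.SpecialLinearGroup (Fin 2) F) //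
      (χ : Matrix.SpecialLinearGroup (Fin 2) F → ℂ) 1 = (((Fintype.card F + 1) / 2 : ℕ) : ℂ)}
    let B := {χ : IrrCharacter (Matrix.SpecialLinearGroup (Fin 2) F) //
      (χ : Matrix.SpecialLinearGroup (Fin 2) F → ℂ) 1 = (((Fintype.card F - 1) / 2 : ℕ) : ℂ)}
    have h4 : Nat.card (A ⊕ B) = 4 := by rw [Nat.card_sum, hnp, hnm]
    rw [← h4]
    let f : {χ : IrrCharacter (Psl F) // (χ : Psl F → ℂ) ∘ α ≠ χ} → A ⊕ B := fun χ =>
      if h : (infl χ.1 : Matrix.SpecialLinearGroup (Fin 2) F → ℂ) 1 =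
        (((Fintype.card F + 1) / 2 : ℕ) : ℂ) then Sum.inl ⟨infl χ.1, h⟩ else
        Sum.inr ⟨infl χ.1, by
          rw [infl_one] at h ⊢
          exact (hcases χ.1 χ.2).resolve_left h⟩
    refine Nat.card_le_card_of_injective f ?_
    intro u v h
    by_cases hu : (infl u.1 : Matrix.SpecialLinearGroup (Fin 2) F → ℂ) 1 =
        (((Fintype.card F + 1) / 2 : ℕ) : ℂ) <;>
      by_cases hv : (infl v.1 : Matrix.SpecialLinearGroup (Fin 2) F → ℂ) 1 =
        (((Fintype.card F + 1) / 2 : ℕ) : ℂ)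
    · simp only [f, dif_pos hu, dif_pos hv, Sum.inl.injEq] at h
      exact Subtype.ext (infl_injective (congrArg Subtype.val h))
    · simp only [f, dif_pos hu, dif_neg hv, reduceCtorEq] at h
    · simp only [f, dif_neg hu, dif_pos hv, reduceCtorEq] at h
    · simp only [f, dif_neg hu, dif_neg hv, Sum.inr.injEq] at h
      exact Subtype.ext (infl_injective (congrArg Subtype.val h))
  omega

end Cfsg.Agent.H714.Tri
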