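import Cfsg.Agent.ClassicalGeometry.AutPSL.Main
import Cfsg.Agent.H169.PSLTwoAut
import Cfsg.Agent.StdL2.FGal

/-!
# Automorphisms of `PSL(2,F)` and the square of the trace

* `tsq` : the square of the trace, a class function on `PSL(2,F)`;
* `exists_fa` : `tsq (α x) = σ (tsq x)` for a field automorphism `σ`;
* `commutator_inner` : commutators of automorphisms are inner.
-/

set_option autoImplicit false
set_option linter.unusedSectionVars false

namespace Cfsg.Agent.H714.Tri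

open Matrix
open Cfsg.Agent.ClassicalGeometry.AutPSL.Root
open Cfsg.Agent.ClassicalGeometry.AutPSL.Auto
open Cfsg.Agent.ClassicalGeometry.AutPSL.Main

/-- `PSL(2,F)` -/
abbrev Psl (F : Type) [Field F] := Matrix.ProjectiveSpecialLinearGroup (Fin 2) F

variable {F : Type} [Field F]

theorem trace_sq_of_pr_eq {g h : Matrix.SpecialLinearGroup (Fin 2) F} (hgh : pr g = pr h) :
    (trace (g : Matrix (Fin 2) (Fin 2) F)) ^ 2 = (trace (h : Matrix (Fin 2) (Fin 2) F)) ^ 2 := by
  have h1 : g⁻¹ * h ∈ Subgroup.center (Matrix.SpecialLinearGroup (Fin 2) F) := QuotientGroup.eq.1 hgh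
  obtain ⟨r, hr, hz⟩ := Matrix.SpecialLinearGroup.mem_center_iff.1 h1
  rw [Fintype.card_fin] at hr
  have h2 : h = g * (g⁻¹ * h) := by group
  have h3 : (h : Matrix (Fin 2) (Fin 2) F) = r • (g : Matrix (Fin 2) (Fin 2) F) := by
    conv_lhs => rw [h2]
    rw [Matrix.SpecialLinearGroup.coe_mul, ← hz, scalar_apply, ← smul_one_eq_diagonal, Matrix.mul_smul,
      mul_one]
  rw [h3, trace_smul, smul_eq_mul, mul_pow, hr, one_mul]

/-- The square of the trace. -/
noncomputable def tsq (x : Psl F) : F :=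
  (trace ((Function.surjInv pr_surjective x : Matrix.SpecialLinearGroup (Fin 2) F) :
    Matrix (Fin 2) (Fin 2) F)) ^ 2

theorem tsq_pr (g : Matrix.SpecialLinearGroup (Fin 2) F) :
    tsq (pr g) = (trace (g : Matrix (Fin 2) (Fin 2) F)) ^ 2 :=
  trace_sq_of_pr_eq (Function.surjInv_eq pr_surjective (pr g))

theorem tsq_lift (A : GL (Fin 2) F) (σ : F ≃+* F) (x : Psl F) :
    tsq (lift (cj A * fld σ) x) = σ (tsq x) := by
  obtain ⟨g, rfl⟩ := pr_surjective x
  rw [lift_pr, tsq_pr, tsq_pr, map_pow]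
  congr 1
  show trace (cj A (fld σ g) : Matrix (Fin 2) (Fin 2) F) = _
  rw [coe_cj, Matrix.trace_mul_comm, ← mul_assoc, ← Units.val_mul, inv_mul_cancel, Units.val_one, one_mul,
    trace_fin_two, trace_fin_two, coe_fld_apply, coe_fld_apply, map_add]

theorem tsq_conj (y x : Psl F) : tsq (y * x * y⁻¹) = tsq x := by
  obtain ⟨g, rfl⟩ := pr_surjective x
  obtain ⟨h, rfl⟩ := pr_surjective y
  rw [← map_mul, ← map_inv, ← map_mul, tsq_pr, tsq_pr]
  congr 1
  rw [Matrix.SpecialLinearGroup.coe_mul, Matrix.trace_mul_comm, ← Matrix.SpecialLinearGroup.coe_mul,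
    ← mul_assoc, inv_mul_cancel, one_mul]

theorem exists_tsq (t : F) : ∃ x : Psl F, tsq x = t ^ 2 := by
  let g : Matrix.SpecialLinearGroup (Fin 2) F := ⟨!![0, -1; 1, t], by simp [Matrix.det_fin_two_of]⟩
  refine ⟨pr g, ?_⟩
  have h : trace (g : Matrix (Fin 2) (Fin 2) F) = t := by
    rw [trace_fin_two]
    show (0 : F) + t = t
    rw [zero_add]
  rw [tsq_pr, h]

/-- Ring automorphisms of a finite field are power maps on the units. -/
theorem exists_pow [Finite F] (σ : F ≃+* F) : ∃ m : ℤ, ∀ u : Fˣ, σ (u : F) = ((u ^ m : Fˣ) : F) := by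
  obtain ⟨m, hm⟩ := (Units.mapEquiv (σ : F ≃* F) : Fˣ ≃* Fˣ).toMonoidHom.map_cyclic
  exact ⟨m, fun u => by rw [← hm u]; rfl⟩

theorem aut_comm [Finite F] (σ τ : F ≃+* F) : σ * τ = τ * σ := by
  obtain ⟨m, hm⟩ := exists_pow σ
  obtain ⟨n, hn⟩ := exists_pow τ
  apply RingEquiv.ext
  intro x
  show σ (τ x) = τ (σ x)
  by_cases hx : x = 0
  · rw [hx]; simp only [map_zero]
  · have h1 : x = ((Units.mk0 x hx : Fˣ) : F) := rfl
    rw [h1, hn, hm, hm, hn, ← _root_.zpow_mul, ← _root_.zpow_mul, mul_comm]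

theorem exists_sq_div [Finite F] (σ : F ≃+* F) (u : Fˣ) : ∃ c : Fˣ, σ (u : F) = ((u * c ^ 2 : Fˣ) : F) := by
  by_cases h2 : (2 : F) = 0
  · -- every unit is a square
    have : Fintype F := Fintype.ofFinite F
    have hch : ringChar F = 2 := by
      have h3 : ((2 : ℕ) : F) = 0 := by exact_mod_cast h2
      exact CharP.ringChar_of_prime_eq_zero Nat.prime_two h3
    have hu : σ (u : F) * (u : F)⁻¹ ≠ 0 :=
      mul_ne_zero ((map_ne_zero σ).2 u.ne_zero) (inv_ne_zero u.ne_zero)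
    obtain ⟨c, hc⟩ := FiniteField.isSquare_of_char_two hch (σ (u : F) * (u : F)⁻¹)
    have hc0 : c ≠ 0 := by
      rintro rfl
      rw [mul_zero] at hc
      exact hu hc
    refine ⟨Units.mk0 c hc0, ?_⟩
    rw [Units.val_mul, Units.val_pow_eq_pow_val, Units.val_mk0, pow_two, ← hc]
    field_simp
  · obtain ⟨m, hm⟩ := exists_pow σ
    have hodd : Odd m := by
      by_contra hne
      rw [Int.not_odd_iff_even] at hne
      have h3 := hm (-1)
      rw [Even.neg_one_zpow hne, Units.val_neg, Units.val_one, map_neg, map_one] at h3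
      apply h2
      linear_combination -h3
    obtain ⟨k, hk⟩ := hodd
    refine ⟨u ^ k, ?_⟩
    rw [hm, hk]
    congr 1
    rw [_root_.zpow_add, zpow_one, ← zpow_natCast, ← _root_.zpow_mul, mul_comm (2 : ℤ) k]
    exact mul_comm _ _

theorem fld_mul_cj (σ : F ≃+* F) (B : GL (Fin 2) F) :
    (fld σ * cj B : MulAut (Matrix.SpecialLinearGroup (Fin 2) F)) =
      cj (Matrix.GeneralLinearGroup.map (σ : F →+* F) B) * fld σ := by
  apply MulEquiv.ext
  intro g
  have h0 : (fld σ * cj B : MulAut (Matrix.SpecialLinearGroup (Fin 2) F)) g = fld σ (cj B g) := rfl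
  have h0' : (cj (Matrix.GeneralLinearGroup.map (σ : F →+* F) B) * fld σ :
      MulAut (Matrix.SpecialLinearGroup (Fin 2) F)) g =
      cj (Matrix.GeneralLinearGroup.map (σ : F →+* F) B) (fld σ g) := rfl
  rw [h0, h0']
  apply Subtype.ext
  have h1 : ∀ x : Matrix.SpecialLinearGroup (Fin 2) F, (fld σ x : Matrix (Fin 2) (Fin 2) F) =
      (x : Matrix (Fin 2) (Fin 2) F).map (σ : F →+* F) := by
    intro x
    ext i j
    exact coe_fld_apply σ x i j
  have h3 : (((Matrix.GeneralLinearGroup.map (σ : F →+* F) B)⁻¹ : GL (Fin 2) F) : Matrix (Fin 2) (Fin 2) F) =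
      ((B⁻¹ : GL (Fin 2) F) : Matrix (Fin 2) (Fin 2) F).map (σ : F →+* F) := rfl
  have h4 : ((Matrix.GeneralLinearGroup.map (σ : F →+* F) B : GL (Fin 2) F) : Matrix (Fin 2) (Fin 2) F) =
      (B : Matrix (Fin 2) (Fin 2) F).map (σ : F →+* F) := rfl
  rw [coe_cj, h1, h1, h3, h4, coe_cj, Matrix.map_mul, Matrix.map_mul]

theorem det_map (σ : F ≃+* F) (B : GL (Fin 2) F) :
    (Matrix.GeneralLinearGroup.map (σ : F →+* F) B : Matrix (Fin 2) (Fin 2) F).det =
      σ (B : Matrix (Fin 2) (Fin 2) F).det := by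
  show ((B : Matrix (Fin 2) (Fin 2) F).map (σ : F →+* F)).det = _
  rw [Matrix.det_fin_two, Matrix.det_fin_two, map_sub, map_mul, map_mul]
  rfl

/-- Commutators of automorphisms of `PSL(2,F)` are inner. -/
theorem commutator_inner [Finite F] (α β : MulAut (Psl F)) :
    ∃ g : Psl F, α * β * α⁻¹ * β⁻¹ = MulAut.conj g := by
  have : Fintype F := Fintype.ofFinite F
  obtain ⟨p, hp⟩ := CharP.exists F
  have hpp : Fact p.Prime := ⟨CharP.char_is_prime F p⟩
  obtain ⟨A, σ, rfl⟩ := surj_two p α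
  obtain ⟨B, τ, rfl⟩ := surj_two p β
  set mσ := Matrix.GeneralLinearGroup.map (n := Fin 2) (σ : F →+* F) with hmσ
  set mτ := Matrix.GeneralLinearGroup.map (n := Fin 2) (τ : F →+* F) with hmτ
  have h1 : (cj A * fld σ) * (cj B * fld τ) * (cj A * fld σ)⁻¹ * (cj B * fld τ)⁻¹ =
      cj (A * mσ B * (mτ A)⁻¹ * B⁻¹) := by
    have e1 : (fld σ * cj B : MulAut (Matrix.SpecialLinearGroup (Fin 2) F)) = cj (mσ B) * fld σ :=
      fld_mul_cj σ B
    have e2 : (fld τ * (cj A)⁻¹ : MulAut (Matrix.SpecialLinearGroup (Fin 2) F)) = (cj (mτ A))⁻¹ * fld τ := by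
      rw [← map_inv, fld_mul_cj τ A⁻¹, ← map_inv, map_inv mτ]
    have e3 : (fld σ * fld τ : MulAut (Matrix.SpecialLinearGroup (Fin 2) F)) = fld τ * fld σ := by
      rw [← map_mul, ← map_mul, aut_comm]
    calc (cj A * fld σ) * (cj B * fld τ) * (cj A * fld σ)⁻¹ * (cj B * fld τ)⁻¹
        = cj A * (fld σ * cj B) * fld τ * ((fld σ)⁻¹ * (cj A)⁻¹) * ((fld τ)⁻¹ * (cj B)⁻¹) := by
          rw [_root_.mul_inv_rev, _root_.mul_inv_rev]; simp only [mul_assoc]
      _ = cj A * cj (mσ B) * (fld σ * fld τ) * (fld σ)⁻¹ * (cj A)⁻¹ * ((fld τ)⁻¹ * (cj B)⁻¹) := by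
          rw [e1]; simp only [mul_assoc]
      _ = cj A * cj (mσ B) * (fld τ * (cj A)⁻¹) * ((fld τ)⁻¹ * (cj B)⁻¹) := by
          rw [e3]; simp only [mul_assoc, mul_inv_cancel_left]
      _ = cj A * cj (mσ B) * (cj (mτ A))⁻¹ * (cj B)⁻¹ := by
          rw [e2]; simp only [mul_assoc, mul_inv_cancel_left]
      _ = _ := by
          rw [map_mul, map_mul, map_mul, map_inv, map_inv]
  have h2 : lift (cj A * fld σ) * lift (cj B * fld τ) * (lift (cj A * fld σ))⁻¹ * (lift (cj B * fld τ))⁻¹ =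
      lift (cj (A * mσ B * (mτ A)⁻¹ * B⁻¹)) := by
    rw [← h1]
    simp only [map_mul, map_inv]
  rw [h2]
  -- the determinant is a square
  obtain ⟨c, hc⟩ := exists_sq_div σ B.det
  obtain ⟨d, hd⟩ := exists_sq_div τ A.det
  refine H169.PSLTwoAut.conj_of_det_sq _ ((c : F) * (d : F)⁻¹) ?_
  have hB : (Matrix.GeneralLinearGroup.det (mσ B) : F) = ((B.det * c ^ 2 : Fˣ) : F) := by
    rw [← hc]
    exact det_map σ B
  have hA : (Matrix.GeneralLinearGroup.det (mτ A) : F) = ((A.det * d ^ 2 : Fˣ) : F) := by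
    rw [← hd]
    exact det_map τ A
  have hB' : Matrix.GeneralLinearGroup.det (mσ B) = B.det * c ^ 2 := Units.ext hB
  have hA' : Matrix.GeneralLinearGroup.det (mτ A) = A.det * d ^ 2 := Units.ext hA
  have h3 : Matrix.GeneralLinearGroup.det (A * mσ B * (mτ A)⁻¹ * B⁻¹) = (c * d⁻¹) ^ 2 := by
    rw [map_mul, map_mul, map_mul, map_inv, map_inv, hA', hB']
    rw [mul_pow, inv_pow, mul_inv]
    have : A.det * (B.det * c ^ 2) * ((A.det)⁻¹ * (d ^ 2)⁻¹) * (B.det)⁻¹ =
        (A.det * (A.det)⁻¹) * (B.det * (B.det)⁻¹) * (c ^ 2 * (d ^ 2)⁻¹) := by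
      simp only [mul_assoc, mul_comm, mul_left_comm]
    rw [this, mul_inv_cancel, mul_inv_cancel, one_mul, one_mul]
  have h4 := congrArg (fun u : Fˣ => (u : F)) h3
  simp only [Units.val_pow_eq_pow_val, Units.val_mul, Units.val_inv_eq_inv_val] at h4
  exact h4

/-- The field automorphism attached to an automorphism. -/
theorem exists_fa (α : MulAut (Psl F)) [Finite F] :
    ∃ σ : F ≃+* F, (∀ x, tsq (α x) = σ (tsq x)) ∧
      (σ = 1 → ∃ g, α * α = MulAut.conj g) ∧ (σ = 1 → (2 : F) = 0 → ∃ g, α = MulAut.conj g) := by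
  have : Fintype F := Fintype.ofFinite F
  obtain ⟨p, hp⟩ := CharP.exists F
  have hpp : Fact p.Prime := ⟨CharP.char_is_prime F p⟩
  obtain ⟨A, σ, rfl⟩ := surj_two p α
  refine ⟨σ, tsq_lift A σ, ?_, ?_⟩
  · rintro rfl
    rw [map_one, mul_one, ← map_mul, ← map_mul]
    refine H169.PSLTwoAut.conj_of_det_sq _ (A : Matrix (Fin 2) (Fin 2) F).det ?_
    rw [Units.val_mul, Matrix.det_mul, pow_two]
  · rintro rfl h2
    have : Fintype F := Fintype.ofFinite F
    have hch : ringChar F = 2 := by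
      have h3 : ((2 : ℕ) : F) = 0 := by exact_mod_cast h2
      exact CharP.ringChar_of_prime_eq_zero Nat.prime_two h3
    obtain ⟨c, hc⟩ := FiniteField.isSquare_of_char_two hch (A : Matrix (Fin 2) (Fin 2) F).det
    rw [map_one, mul_one]
    exact H169.PSLTwoAut.conj_of_det_sq _ c (by rw [hc, pow_two])

/-- The field automorphism of an inner automorphism is trivial. -/
theorem fa_eq_one [Finite F] {α : MulAut (Psl F)} {σ : F ≃+* F} (h : ∀ x, tsq (α x) = σ (tsq x)) {g : Psl F}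
    (hg : α = MulAut.conj g) : σ = 1 := by
  have h1 : ∀ t : F, σ (t ^ 2) = t ^ 2 := by
    intro t
    obtain ⟨x, hx⟩ := exists_tsq t
    rw [← hx, ← h, hg, MulAut.conj_apply, tsq_conj]
  apply RingEquiv.ext
  intro t
  show σ t = t
  by_cases h2 : (2 : F) = 0
  · have h3 : (σ t - t) ^ 2 = 0 := by
      have h4 := h1 t
      rw [map_pow] at h4
      linear_combination h4 - (σ t * t - t ^ 2) * h2
    have h5 := pow_eq_zero_iff (two_ne_zero) |>.1 h3
    exact sub_eq_zero.1 h5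
  · have h3 := h1 (t + 1)
    have h4 := h1 t
    rw [map_pow, map_add, map_one] at h3
    rw [map_pow] at h4
    have h5 : (2 : F) * (σ t - t) = 0 := by linear_combination h3 - h4
    rcases mul_eq_zero.1 h5 with h6 | h6
    · exact absurd h6 h2
    · exact sub_eq_zero.1 h6

end Cfsg.Agent.H714.Tri
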